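/-
Root data of `²E₆` in characteristic two: the root permutation, an invariant height separating the orbits,
sums and differences of roots.
-/
import Cfsg.Agent.Lib.Lie.Twisted.E6Torus
import Cfsg.Agent.Lib.Lie.CharTwoInv.ClassE6

set_option autoImplicit false
set_option maxRecDepth 100000

namespace CfsgLib.Lie.Chev.TwGroups.E6Inv

open Cfsg.Lie
open CfsgLib.Lie.Chev.Inv2

/-- roots as a finite type -/
abbrev Root : Type := Fin chevE6.nroots

/-- the root permutation on indices -/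
def rhoN (r : ℕ) : ℕ := (twAt chevE6 twTE6 r).1

/-- weights of the invariant height -/
def levW : List ℤ := [4, 2, 5, 1, 5, 4]

/-- the invariant height -/
def lev (r : ℕ) : ℤ := ((List.range chevE6.rank).map fun j => levW.getD j 0 * auxE6.coef j r).sum

/-- the sum of two roots -/
def sumR (r s : ℕ) : ℕ := ((chevE6.commTerms r s).head?.map Prod.fst).getD chevE6.nroots

/-- the difference of two positive roots -/
def diffR (r k : ℕ) : ℕ :=
  ((List.range' (half chevE6) (half chevE6)).find? fun d =>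
    decide (inn chevE6 auxE6 r d = -1) && Nat.beq (sumR r d) k).getD chevE6.nroots

/-- facts on one root -/
def chk1 : Bool :=
  (List.range chevE6.nroots).all fun r =>
    Nat.blt (rhoN r) chevE6.nroots && Nat.beq (rhoN (rhoN r)) r &&
      (Nat.blt r (half chevE6) == Nat.blt (rhoN r) (half chevE6)) && Nat.beq (twAt chevE6 twTE6 r).2.2 1 &&
      decide (lev (rhoN r) = lev r) && (Nat.beq (rhoN r) r || decide (inn chevE6 auxE6 r (rhoN r) = 0)) &&
      (Nat.blt r (half chevE6) || decide (1 ≤ lev r ∧ lev r ≤ 35))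

/-- facts on two positive roots -/
def chk2 : Bool :=
  (List.range' (half chevE6) (half chevE6)).all fun r => (List.range' (half chevE6) (half chevE6)).all fun s =>
    decide (inn chevE6 auxE6 (rhoN r) (rhoN s) = inn chevE6 auxE6 r s) &&
      (!decide (lev r = lev s) || Nat.beq s r || Nat.beq s (rhoN r)) &&
      (!decide (inn chevE6 auxE6 r s = -1) ||
        (Nat.beq (sumR r s) (sumR s r) && Nat.beq (sumR (rhoN r) (rhoN s)) (rhoN (sumR r s)))) &&
      (!(decide (inn chevE6 auxE6 r s = 1) && decide (lev r < lev s)) ||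
        (Nat.blt (diffR r s) chevE6.nroots && Nat.ble (half chevE6) (diffR r s) &&
          decide (inn chevE6 auxE6 r (diffR r s) = -1) && Nat.beq (sumR r (diffR r s)) s &&
          Nat.beq (diffR (rhoN r) (rhoN s)) (rhoN (diffR r s)) &&
          (Nat.beq (rhoN r) r || !decide (inn chevE6 auxE6 (rhoN r) s = -1) ||
            Nat.beq (rhoN (diffR r s)) (diffR r s))))

theorem chk1_ok : chk1 = true := by decide +kernel

theorem chk2_ok : chk2 = true := by decide +kernel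

theorem nroots_half : chevE6.nroots = half chevE6 + half chevE6 := by decide +kernel

theorem mem_pos {r : Root} : (r : ℕ) ∈ List.range' (half chevE6) (half chevE6) ↔ half chevE6 ≤ (r : ℕ) := by
  have := r.2; have := nroots_half
  rw [List.mem_range'_1]; omega

theorem spec1 (r : Root) : rhoN r < chevE6.nroots ∧ rhoN (rhoN r) = r ∧
    (half chevE6 ≤ rhoN r ↔ half chevE6 ≤ (r : ℕ)) ∧ (twAt chevE6 twTE6 r).2.2 = 1 ∧ lev (rhoN r) = lev r ∧
    (rhoN r = r ∨ inn chevE6 auxE6 r (rhoN r) = 0) ∧ (half chevE6 ≤ (r : ℕ) → 1 ≤ lev r ∧ lev r ≤ 35) := by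
  have h := chk1_ok
  simp only [chk1, List.all_eq_true, List.mem_range, Bool.and_eq_true, nat_blt_iff, nat_beq_iff, decide_eq_true_iff,
    Bool.or_eq_true, beq_iff_eq] at h
  obtain ⟨⟨⟨⟨⟨⟨h1, h2⟩, h3⟩, h4⟩, h5⟩, h6⟩, h7⟩ := h r r.2
  refine ⟨h1, h2, ?_, h4, h5, h6, fun hp => h7.resolve_left (by omega)⟩
  rw [Bool.eq_iff_iff, nat_blt_iff, nat_blt_iff] at h3
  omega

/-- the root permutation -/
def rho (r : Root) : Root := ⟨rhoN r, (spec1 r).1⟩

theorem rho_rho (r : Root) : rho (rho r) = r := Fin.ext (spec1 r).2.1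

theorem rho_pos {r : Root} : half chevE6 ≤ (rho r : ℕ) ↔ half chevE6 ≤ (r : ℕ) := (spec1 r).2.2.1

theorem lev_rho (r : Root) : lev (rho r : ℕ) = lev r := (spec1 r).2.2.2.2.1

theorem lev_bound {r : Root} (hr : half chevE6 ≤ (r : ℕ)) : 1 ≤ lev r ∧ lev r ≤ 35 := (spec1 r).2.2.2.2.2.2 hr

theorem orth_rho (r : Root) : rho r = r ∨ inn chevE6 auxE6 r (rho r : ℕ) = 0 :=
  (spec1 r).2.2.2.2.2.1.imp (fun h => Fin.ext h) id

theorem spec2 {r s : Root} (hr : half chevE6 ≤ (r : ℕ)) (hs : half chevE6 ≤ (s : ℕ)) :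
    inn chevE6 auxE6 (rho r : ℕ) (rho s : ℕ) = inn chevE6 auxE6 r s ∧
    (lev r = lev s → s = r ∨ s = rho r) ∧
    (inn chevE6 auxE6 r s = -1 → sumR r s = sumR s r ∧ sumR (rho r : ℕ) (rho s : ℕ) = rhoN (sumR r s)) ∧
    (inn chevE6 auxE6 r s = 1 → lev r < lev s → ∃ d : Root, half chevE6 ≤ (d : ℕ) ∧ diffR r s = d ∧
      inn chevE6 auxE6 r d = -1 ∧ sumR r d = s ∧ diffR (rho r : ℕ) (rho s : ℕ) = (rho d : ℕ) ∧
      (rho r = r ∨ inn chevE6 auxE6 (rho r : ℕ) s ≠ -1 ∨ rho d = d)) := by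
  have h := chk2_ok
  simp only [chk2, List.all_eq_true, Bool.and_eq_true, decide_eq_true_iff, Bool.or_eq_true, Bool.not_eq_true',
    decide_eq_false_iff_not, nat_beq_iff, nat_blt_iff, nat_ble_iff, ← Bool.not_eq_true] at h
  obtain ⟨⟨⟨h1, h2⟩, h3⟩, h4⟩ := h r (mem_pos.2 hr) s (mem_pos.2 hs)
  refine ⟨h1, fun e => ?_, fun e => h3.resolve_left fun h3 => h3 e, fun e1 e2 => ?_⟩
  · rcases h2 with (h2 | h2) | h2
    · exact absurd e h2
    · exact Or.inl (Fin.ext h2)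
    · exact Or.inr (Fin.ext h2)
  · obtain ⟨⟨⟨⟨⟨a, b⟩, c⟩, d⟩, e'⟩, f⟩ := h4.resolve_left (fun h4 => h4 ⟨e1, e2⟩)
    refine ⟨⟨_, a⟩, b, rfl, c, d, e', ?_⟩
    rcases f with (f | f) | f
    · exact Or.inl (Fin.ext f)
    · exact Or.inr (Or.inl f)
    · exact Or.inr (Or.inr (Fin.ext f))

theorem inn_rho {r s : Root} (hr : half chevE6 ≤ (r : ℕ)) (hs : half chevE6 ≤ (s : ℕ)) :
    inn chevE6 auxE6 (rho r : ℕ) (rho s : ℕ) = inn chevE6 auxE6 r s := (spec2 hr hs).1

theorem rho_inn {r s : Root} (hr : half chevE6 ≤ (r : ℕ)) (hs : half chevE6 ≤ (s : ℕ)) :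
    inn chevE6 auxE6 (rho r : ℕ) s = inn chevE6 auxE6 r (rho s : ℕ) := by
  conv_lhs => rw [← rho_rho s]
  exact inn_rho hr (rho_pos.2 hs)

theorem eq_of_lev {r s : Root} (hr : half chevE6 ≤ (r : ℕ)) (hs : half chevE6 ≤ (s : ℕ)) (h : lev r = lev s) :
    s = r ∨ s = rho r := (spec2 hr hs).2.1 h

theorem lev_add {u r s : ℕ} (h : ∀ j < chevE6.rank, auxE6.coef j u = auxE6.coef j r + auxE6.coef j s) :
    lev u = lev r + lev s := by
  have e : ∀ r : ℕ, lev r = ∑ j ∈ Finset.range chevE6.rank, levW.getD j 0 * auxE6.coef j r := fun r => rfl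
  rw [e, e, e, ← Finset.sum_add_distrib]
  exact Finset.sum_congr rfl fun j hj => by rw [h j (Finset.mem_range.1 hj)]; ring

/-- the root `r + s` -/
theorem exists_sum {r s : Root} (hr : half chevE6 ≤ (r : ℕ)) (hs : half chevE6 ≤ (s : ℕ))
    (h : inn chevE6 auxE6 r s = -1) : ∃ u : Root, half chevE6 ≤ (u : ℕ) ∧ sumR r s = u ∧
      lev u = lev r + lev s ∧ (∀ l : ℕ, inn chevE6 auxE6 l u = inn chevE6 auxE6 l r + inn chevE6 auxE6 l s) ∧
      ∃ C : ℤ, C % 2 = 1 ∧ chevE6.commTerms r s = [((u : ℕ), C, 1, 1)] := by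
  obtain ⟨u, hu, hp, -, -, h3, C, hC, he⟩ := slE6.exists_sum r.2 hr s.2 hs h
  refine ⟨⟨u, hu⟩, hp, ?_, lev_add h3, fun l => slE6.inn_add h3, C, hC, he⟩
  rw [sumR, he]; rfl

end CfsgLib.Lie.Chev.TwGroups.E6Inv
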