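/-
Root elements, the twisting map and coordinates at indecomposable roots in characteristic two.
-/
import Cfsg.Agent.Lib.Lie.Twisted.E6Inv.Facts

set_option autoImplicit false

namespace CfsgLib.Lie.Chev.TwGroups.E6Inv

open Cfsg.Lie
open CfsgLib.Lie.Chev.Inv2

/-- the commutator `a b a⁻¹ b⁻¹` -/
def br {G : Type*} [Group G] (a b : G) : G := a * b * a⁻¹ * b⁻¹

theorem br_mul_left {G : Type*} [Group G] (a b g : G) : br (a * b) g = a * br b g * a⁻¹ * br a g := by
  simp only [br]; group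

theorem br_mul_right {G : Type*} [Group G] (a g h : G) : br a (g * h) = br a g * (g * br a h * g⁻¹) := by
  simp only [br]; group

theorem br_one_right {G : Type*} [Group G] (a : G) : br a (1 : G) = 1 := by simp [br]

variable {K : Type*} [Field K]

/-- the root element -/
abbrev xR (r : Root) (t : K) : ↥(chevE6.group K) := (chevRel certE6 K).xe (r : ℕ) t

/-- the subgroup of a set of roots -/
abbrev UR (K : Type*) [Field K] (A : Set Root) : Subgroup ↥(chevE6.group K) := (chevRel certE6 K).US A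

/-- a set of positive roots closed under sums -/
theorem closed_of_lev {A : Set Root} (hpos : ∀ r ∈ A, half chevE6 ≤ (r : ℕ))
    (h : ∀ r ∈ A, ∀ s ∈ A, ∀ u : Root, half chevE6 ≤ (u : ℕ) → lev u = lev r + lev s →
      (∀ l : ℕ, inn chevE6 auxE6 l u = inn chevE6 auxE6 l r + inn chevE6 auxE6 l s) → u ∈ A) :
    PosClosed chevE6 A :=
  (chevRel certE6 ℚ).closed_of_sum slE6 hpos fun r hr s hs u hu _ _ h3 =>
    h r hr s hs u hu (lev_add h3) fun _ => slE6.inn_add h3

variable [CharP K 2]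

theorem xR_inv (r : Root) (t : K) : (xR r t)⁻¹ = xR r t := (chevRel certE6 K).xe_inv r t

theorem xR_add (r : Root) (t u : K) : xR r t * xR r u = xR r (t + u) := (chevRel certE6 K).xe_add' r t u

theorem xR_self (r : Root) (t : K) : xR r t * xR r t = 1 := by
  rw [xR_add, CharTwo.add_self_eq_zero]
  exact (chevRel certE6 K).xe_zero _

theorem br_eq_one {r s : Root} (hr : half chevE6 ≤ (r : ℕ)) (hs : half chevE6 ≤ (s : ℕ))
    (h : inn chevE6 auxE6 r s ≠ -1) (t v : K) : br (xR r t) (xR s v) = 1 := by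
  simp only [br]
  rw [((chevRel certE6 K).commute_of_pos slE6 hr hs h t v).eq]; group

theorem br_eq_sum {r s : Root} (hr : half chevE6 ≤ (r : ℕ)) (hs : half chevE6 ≤ (s : ℕ))
    (h : inn chevE6 auxE6 r s = -1) : ∃ u : Root, half chevE6 ≤ (u : ℕ) ∧ sumR r s = u ∧
      lev u = lev r + lev s ∧ (∀ l : ℕ, inn chevE6 auxE6 l u = inn chevE6 auxE6 l r + inn chevE6 auxE6 l s) ∧
      ∀ t v : K, br (xR r t) (xR s v) = xR u (t * v) := by
  obtain ⟨u, hu, e, h1, h2, C, hC, he⟩ := exists_sum hr hs h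
  refine ⟨u, hu, e, h1, h2, fun t v => ?_⟩
  have h' := (chevRel certE6 K).conj_of_term slE6 r.2 s.2 hC he h t v
  simp only [br, xR_inv] at h' ⊢
  rw [mul_assoc (xR r t), mul_assoc (xR r t), show (chevRel certE6 K).xe (s : ℕ) v = xR s v from rfl,
    show (chevRel certE6 K).xe (r : ℕ) t = xR r t from rfl] at *
  rw [h', ← mul_assoc, xR_self, one_mul]

section Sigma

variable [Fintype K] {q : ℕ} (hq : IsPrimePow q) (hK : Fintype.card K = q ^ 2)

theorem sig_xR (r : Root) (t : K) : σE6 hq hK (xR r t) = xR (rho r) (t ^ q) := by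
  show σE6 hq hK (xG certE6 K (r : ℕ) t) = _
  rw [σE6_gen, (spec1 r).2.2.2.1, pow_one, frE6_apply]
  have h1 : (((twAt chevE6 twTE6 r).2.1 : ℤ) : K) = 1 := by
    rcases (twAt_props twOkE6 r.2).2.1 with h | h <;> rw [h] <;> simp [CharTwo.neg_eq]
  rw [h1, one_mul]
  rfl

include hq hK in
theorem sig_UR {A B : Set Root} (h : ∀ r ∈ A, rho r ∈ B) {g : ↥(chevE6.group K)} (hg : g ∈ UR K A) :
    σE6 hq hK g ∈ UR K B := by
  refine ((chevRel certE6 K).US_le (H := (UR K B).comap (σE6 hq hK)) fun r hr t => ?_) hg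
  show σE6 hq hK (xR r t) ∈ UR K B
  rw [sig_xR]
  exact (chevRel certE6 K).xe_mem_US (h r hr) _

end Sigma

/-- `b` is the coordinate at `j` -/
def Cd (A : Set Root) (j : Root) (g : ↥(chevE6.group K)) (b : K) : Prop :=
  ∃ y ∈ UR K (A \ {j}), g = xR j b * y

variable {A W : Set Root} {j : Root} (hA : PosClosed chevE6 A) (hj : PosClosed chevE6 (A \ {j})) (hjA : j ∈ A)

omit [CharP K 2] in
include hA in
theorem cd_exists {g : ↥(chevE6.group K)} (hg : g ∈ UR K A) : ∃ b : K, Cd A j g b := by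
  obtain ⟨b, y, hy, -, e⟩ := (chevRel certE6 K).split_at hA j hg
  exact ⟨b, y, hy, e⟩

theorem cd_zero {g : ↥(chevE6.group K)} (hg : g ∈ UR K (A \ {j})) : Cd A j g 0 :=
  ⟨g, hg, by simp [(chevRel certE6 K).xe_zero]⟩

theorem cd_gen (t : K) : Cd A j (xR j t) t := ⟨1, one_mem _, (mul_one _).symm⟩

include hA hj hjA in
theorem norm_gen {d : Root} (hd : d ∈ A) (t : K) {y : ↥(chevE6.group K)} (hy : y ∈ UR K (A \ {j})) :
    xR d t * y * (xR d t)⁻¹ ∈ UR K (A \ {j}) := by
  refine (chevRel certE6 K).conj_gen_mem slE6 (T := A \ {j}) (hA.1 hd) hj.1 (fun s hs => hs)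
    (fun s hs hi w hw h1 h2 h3 => ?_) t hy
  obtain ⟨u, -, -, -, hlev, C, -, he⟩ := exists_sum (hA.1 hs.1) (hA.1 hd) hi
  have hwu : w = u := by
    obtain ⟨-, -, -, -, g5⟩ := slE6.cert.commTerms_props s.2 d.2 ((u : ℕ), C, 1, 1) (by rw [he]; simp)
    have hk : key chevE6 auxE6 (w : ℕ) = key chevE6 auxE6 (u : ℕ) := by
      rw [slE6.key_add h3, slE6.key_add (u := (u : ℕ)) (r := (s : ℕ)) (s := (d : ℕ)) fun i hi => by rw [g5 i hi]; simp]
    rcases lt_trichotomy (w : ℕ) (u : ℕ) with h | h | h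
    · exact absurd (slE6.key_lt h u.2) (by omega)
    · exact Fin.ext h
    · exact absurd (slE6.key_lt h w.2) (by omega)
  refine ⟨?_, fun e => ?_⟩
  · exact hwu ▸ hA.2 s hs.1 d hd _ (by rw [he]; exact List.mem_singleton_self _) u.2
  · have e1 : w = j := e
    by_cases hdj : d = j
    · have e2 := lev_add h3
      have := (lev_bound (hA.1 hs.1)).1
      rw [e1, hdj] at e2
      omega
    · exact ((hwu ▸ hj.2 s hs d ⟨hd, hdj⟩ _ (by rw [he]; exact List.mem_singleton_self _) u.2 :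
        w ∈ A \ {j})).2 e

include hA hj hjA in
theorem norm_mem {g : ↥(chevE6.group K)} (hg : g ∈ UR K A) {y : ↥(chevE6.group K)} (hy : y ∈ UR K (A \ {j})) :
    g * y * g⁻¹ ∈ UR K (A \ {j}) := by
  have key : ∀ g ∈ UR K A, ∀ y ∈ UR K (A \ {j}), g * y * g⁻¹ ∈ UR K (A \ {j}) := by
    intro g hg
    refine closure_induction_symm (chevRel certE6 K).gens_symm ?_ ?_ hg
    · intro y hy; simpa using hy
    · rintro x ⟨d, hd, t, rfl⟩ z hz y hy
      rw [show xR d t * z * y * (xR d t * z)⁻¹ = xR d t * (z * y * z⁻¹) * (xR d t)⁻¹ by group]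
      exact norm_gen hA hj hjA hd t (hz y hy)
  exact key g hg y hy

include hjA in
omit [CharP K 2] in
theorem cd_mem {g : ↥(chevE6.group K)} {b : K} (h : Cd A j g b) : g ∈ UR K A := by
  obtain ⟨y, hy, rfl⟩ := h
  exact mul_mem ((chevRel certE6 K).xe_mem_US hjA b) ((chevRel certE6 K).US_mono (T := A) (fun s hs => hs.1) hy)

include hA hj hjA in
theorem cd_mul {g g' : ↥(chevE6.group K)} {b b' : K} (h : Cd A j g b) (h' : Cd A j g' b') :
    Cd A j (g * g') (b + b') := by
  obtain ⟨y, hy, rfl⟩ := h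
  obtain ⟨y', hy', rfl⟩ := h'
  refine ⟨xR j b' * y * (xR j b')⁻¹ * y', mul_mem (norm_gen hA hj hjA hjA b' hy) hy', ?_⟩
  rw [← xR_add, xR_inv]
  calc xR j b * y * (xR j b' * y') = xR j b * (xR j b' * xR j b') * y * xR j b' * y' := by
        rw [xR_self]; group
    _ = _ := by group

include hA hj hjA in
theorem cd_inv {g : ↥(chevE6.group K)} {b : K} (h : Cd A j g b) : Cd A j g⁻¹ b := by
  obtain ⟨y, hy, rfl⟩ := h
  refine ⟨xR j b * y⁻¹ * (xR j b)⁻¹, norm_gen hA hj hjA hjA b (inv_mem hy), ?_⟩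
  rw [mul_inv_rev, xR_inv]
  calc y⁻¹ * xR j b = (xR j b * xR j b) * y⁻¹ * xR j b := by
        rw [xR_self, one_mul]
    _ = _ := by group

include hA hj hjA in
theorem cd_unique {g : ↥(chevE6.group K)} {b b' : K} (h : Cd A j g b) (h' : Cd A j g b') : b = b' := by
  have h2 := cd_mul hA hj hjA h (cd_inv hA hj hjA h')
  rw [mul_inv_cancel] at h2
  obtain ⟨y, hy, e⟩ := h2
  have hin : xR j (b + b') ∈ UR K (A \ {j}) := by
    rw [show xR j (b + b') = y⁻¹ from eq_inv_of_mul_eq_one_left e.symm]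
    exact inv_mem hy
  have := (chevRel certE6 K).eq_zero_of_mem_closed hj (hA.1 hjA) (fun h => h.2 rfl) hin
  rwa [← CharTwo.sub_eq_add, sub_eq_zero] at this

include hA hj hjA in
theorem cd_conj_mem {h g : ↥(chevE6.group K)} {b : K} (hh : h ∈ UR K A) (hg : Cd A j g b) :
    Cd A j (h * g * h⁻¹) b := by
  obtain ⟨c, hc⟩ := cd_exists (j := j) hA hh
  have := cd_mul hA hj hjA (cd_mul hA hj hjA hc hg) (cd_inv hA hj hjA hc)
  rwa [show c + b + c = b by rw [add_comm c b, add_assoc, CharTwo.add_self_eq_zero, add_zero]] at this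

include hA hj hjA in
/-- conjugation by a root element preserving the coordinate -/
theorem cd_conj {d : Root} (hd : half chevE6 ≤ (d : ℕ)) (hWA : W ⊆ A)
    (hW : ∀ s ∈ W, inn chevE6 auxE6 d s = -1 → ∀ u : Root, sumR d s = u → half chevE6 ≤ (u : ℕ) →
      lev u = lev d + lev s → (∀ l : ℕ, inn chevE6 auxE6 l u = inn chevE6 auxE6 l d + inn chevE6 auxE6 l s) →
      u ∈ A \ {j}) (t : K) {g : ↥(chevE6.group K)} (hg : g ∈ UR K W) {b : K} (hb : Cd A j g b) :
    Cd A j (xR d t * g * (xR d t)⁻¹) b := by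
  have key : br (xR d t) g ∈ UR K (A \ {j}) := by
    suffices h : g ∈ UR K A ∧ br (xR d t) g ∈ UR K (A \ {j}) from h.2
    refine closure_induction_symm (chevRel certE6 K).gens_symm ?_ ?_ hg
    · exact ⟨one_mem _, by rw [br_one_right]; exact one_mem _⟩
    · rintro x ⟨s, hs, v, rfl⟩ z ⟨hz1, hz2⟩
      refine ⟨mul_mem ((chevRel certE6 K).xe_mem_US (hWA hs) v) hz1, ?_⟩
      rw [br_mul_right]
      refine mul_mem ?_ (norm_gen hA hj hjA (hWA hs) v hz2)
      by_cases hi : inn chevE6 auxE6 d s = -1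
      · obtain ⟨u, hu, e1, e2, e3, e4⟩ := br_eq_sum (K := K) hd (hA.1 (hWA hs)) hi
        rw [show (chevRel certE6 K).xe (s : ℕ) v = xR s v from rfl, e4]
        exact (chevRel certE6 K).xe_mem_US (hW s hs hi u e1 hu e2 e3) _
      · rw [show (chevRel certE6 K).xe (s : ℕ) v = xR s v from rfl, br_eq_one hd (hA.1 (hWA hs)) hi]
        exact one_mem _
  have := cd_mul hA hj hjA (cd_zero (j := j) key) hb
  rw [zero_add] at this
  rwa [show xR d t * g * (xR d t)⁻¹ = br (xR d t) g * g by simp only [br]; group]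

end CfsgLib.Lie.Chev.TwGroups.E6Inv
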