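/-
Orbit elements and the sets of roots used in the reduction of involutions.
-/
import Cfsg.Agent.Lib.Lie.Twisted.E6Inv.Coord

set_option autoImplicit false

namespace CfsgLib.Lie.Chev.TwGroups.E6Inv

open Cfsg.Lie
open CfsgLib.Lie.Chev.Inv2

/-- positive roots of height at least `m` orthogonal to `L` -/
def oset (L : List Root) (m : ℤ) : Set Root :=
  {s | half chevE6 ≤ (s : ℕ) ∧ m ≤ lev s ∧ ∀ l ∈ L, inn chevE6 auxE6 l s = 0}

/-- orthogonal to the orbit of `r` -/
def Zr (r s : Root) : Prop := inn chevE6 auxE6 r s = 0 ∧ inn chevE6 auxE6 (rho r : ℕ) s = 0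

/-- the roots left at height `ℓ` -/
def aset (L : List Root) (r : Root) (ℓ : ℤ) : Set Root :=
  {s | s ∈ oset L (lev r + 1) ∧ (Zr r s ∨ ℓ ≤ lev s)}

theorem oset_closed (L : List Root) (m : ℤ) : PosClosed chevE6 (oset L m) :=
  closed_of_lev (fun _ h => h.1) fun a ha b hb u hu h1 h2 => ⟨hu, by
    have := ha.2.1; have := (lev_bound hb.1).1; omega, fun l hl => by rw [h2, ha.2.2 l hl, hb.2.2 l hl, add_zero]⟩

theorem aset_sum {L : List Root} {r a b u : Root} {ℓ : ℤ} (ha : a ∈ aset L r ℓ) (hb : b ∈ aset L r ℓ)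
    (hu : half chevE6 ≤ (u : ℕ)) (h1 : lev u = lev a + lev b)
    (h2 : ∀ l : ℕ, inn chevE6 auxE6 l u = inn chevE6 auxE6 l a + inn chevE6 auxE6 l b) : u ∈ aset L r ℓ := by
  refine ⟨⟨hu, ?_, fun l hl => by rw [h2, ha.1.2.2 l hl, hb.1.2.2 l hl, add_zero]⟩, ?_⟩
  · have := ha.1.2.1; have := (lev_bound hb.1.1).1; omega
  · have := (lev_bound ha.1.1).1; have := (lev_bound hb.1.1).1
    rcases ha.2 with ha2 | ha2
    swap
    · exact Or.inr (by omega)
    rcases hb.2 with hb2 | hb2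
    swap
    · exact Or.inr (by omega)
    exact Or.inl ⟨by rw [h2, ha2.1, hb2.1, add_zero], by rw [h2, ha2.2, hb2.2, add_zero]⟩

theorem aset_closed (L : List Root) (r : Root) (ℓ : ℤ) : PosClosed chevE6 (aset L r ℓ) :=
  closed_of_lev (fun _ h => h.1.1) fun _ ha _ hb _ hu h1 h2 => aset_sum ha hb hu h1 h2

theorem aset_diff_closed {L : List Root} {r j : Root} {ℓ : ℤ} (hj : ¬ Zr r j) (hlev : lev j ≤ lev r + ℓ)
    (hℓ : lev r < ℓ) : PosClosed chevE6 (aset L r ℓ \ {j}) := by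
  refine closed_of_lev (fun _ h => h.1.1.1) fun a ha b hb u hu h1 h2 => ⟨aset_sum ha.1 hb.1 hu h1 h2, fun e => ?_⟩
  have e' : u = j := e
  subst e'
  have := ha.1.1.2.1; have := hb.1.1.2.1
  rcases ha.1.2 with ha2 | ha2
  swap
  · omega
  rcases hb.1.2 with hb2 | hb2
  swap
  · omega
  exact hj ⟨by rw [h2, ha2.1, hb2.1, add_zero], by rw [h2, ha2.2, hb2.2, add_zero]⟩

theorem inter_closed {A B : Set Root} (hA : PosClosed chevE6 A) (hB : PosClosed chevE6 B) :
    PosClosed chevE6 (A ∩ B) :=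
  ⟨fun _ h => hA.1 h.1, fun r hr s hs c hc hlt => ⟨hA.2 r hr.1 s hs.1 c hc hlt, hB.2 r hr.2 s hs.2 c hc hlt⟩⟩

theorem Zr_rho {r s : Root} (hr : half chevE6 ≤ (r : ℕ)) (hs : half chevE6 ≤ (s : ℕ)) (h : Zr r s) :
    Zr r (rho s) := ⟨by rw [← rho_inn hr hs]; exact h.2, by rw [inn_rho hr hs]; exact h.1⟩

theorem oset_rho {L : List Root} (hLp : ∀ l ∈ L, half chevE6 ≤ (l : ℕ)) (hLr : ∀ l ∈ L, rho l ∈ L) {m : ℤ}
    {s : Root} (hs : s ∈ oset L m) : rho s ∈ oset L m := by
  refine ⟨rho_pos.2 hs.1, by rw [lev_rho]; exact hs.2.1, fun l hl => ?_⟩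
  rw [← rho_inn (hLp l hl) hs.1]
  exact hs.2.2 _ (hLr l hl)

theorem aset_rho {L : List Root} (hLp : ∀ l ∈ L, half chevE6 ≤ (l : ℕ)) (hLr : ∀ l ∈ L, rho l ∈ L) {r : Root}
    (hr : half chevE6 ≤ (r : ℕ)) {ℓ : ℤ} {s : Root} (hs : s ∈ aset L r ℓ) : rho s ∈ aset L r ℓ :=
  ⟨oset_rho hLp hLr hs.1, hs.2.imp (Zr_rho hr hs.1.1) fun h => by rw [lev_rho]; exact h⟩

variable {K : Type*} [Field K]

/-- the parameter of a fixed root lies in the small field -/
def Fx (q : ℕ) (r : Root) (c : K) : Prop := rho r = r → c ^ q = c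

/-- the element of an orbit -/
def orbEl (q : ℕ) (r : Root) (c : K) : ↥(chevE6.group K) :=
  if rho r = r then xR r c else xR r c * xR (rho r) (c ^ q)

theorem orbEl_fix {q : ℕ} {r : Root} (h : rho r = r) (c : K) : orbEl q r c = xR r c := if_pos h

theorem orbEl_pair {q : ℕ} {r : Root} (h : rho r ≠ r) (c : K) :
    orbEl q r c = xR r c * xR (rho r) (c ^ q) := if_neg h

theorem orbEl_mem {A : Set Root} {q : ℕ} {r : Root} (h1 : r ∈ A) (h2 : rho r ∈ A) (c : K) :
    orbEl q r c ∈ UR K A := by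
  unfold orbEl
  split_ifs
  · exact (chevRel certE6 K).xe_mem_US h1 c
  · exact mul_mem ((chevRel certE6 K).xe_mem_US h1 c) ((chevRel certE6 K).xe_mem_US h2 _)

variable [CharP K 2]

theorem orbEl_self {q : ℕ} {r : Root} (hr : half chevE6 ≤ (r : ℕ)) (c : K) :
    orbEl q r c * orbEl q r c = 1 := by
  by_cases h : rho r = r
  · rw [orbEl_fix h, xR_self]
  · rw [orbEl_pair h]
    have hi := (orth_rho r).resolve_left h
    have e : Commute (xR r c) (xR (rho r) (c ^ q)) :=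
      (chevRel certE6 K).commute_of_pos slE6 hr (rho_pos.2 hr) (by omega) _ _
    calc xR r c * xR (rho r) (c ^ q) * (xR r c * xR (rho r) (c ^ q))
        = xR r c * (xR (rho r) (c ^ q) * xR r c) * xR (rho r) (c ^ q) := by group
      _ = (xR r c * xR r c) * (xR (rho r) (c ^ q) * xR (rho r) (c ^ q)) := by rw [← e.eq]; group
      _ = 1 := by rw [xR_self, xR_self, one_mul]

theorem orbEl_inv {q : ℕ} {r : Root} (hr : half chevE6 ≤ (r : ℕ)) (c : K) : (orbEl q r c)⁻¹ = orbEl q r c :=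
  inv_eq_of_mul_eq_one_right (orbEl_self hr c)

variable [Fintype K] {q : ℕ} (hq : IsPrimePow q) (hK : Fintype.card K = q ^ 2)

theorem orbEl_fixed {r : Root} (hr : half chevE6 ≤ (r : ℕ)) {c : K} (hc : Fx q r c) :
    σE6 hq hK (orbEl q r c) = orbEl q r c := by
  by_cases h : rho r = r
  · rw [orbEl_fix h, sig_xR, h, hc h]
  · rw [orbEl_pair h, map_mul, sig_xR, sig_xR, rho_rho, pow_qq hK]
    exact ((chevRel certE6 K).commute_of_pos slE6 (rho_pos.2 hr) hr
      (by rw [slE6.inn_comm (rho r).2 r.2, (orth_rho r).resolve_left h]; norm_num) _ _).eq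

include hq hK in
/-- a fixed element splits off the element of an orbit -/
theorem split_orbit {A : Set Root} (hA : PosClosed chevE6 A) (hAr : ∀ s ∈ A, rho s ∈ A) {k : Root}
    (hk : k ∈ A) (h1 : PosClosed chevE6 (A \ {k})) (h2 : PosClosed chevE6 (A \ {rho k}))
    {g : ↥(chevE6.group K)} (hg : g ∈ UR K A) (hσ : σE6 hq hK g = g) :
    ∃ b : K, Cd A k g b ∧ Fx q k b ∧ ∃ y ∈ UR K (A \ {k, rho k}), σE6 hq hK y = y ∧ g = orbEl q k b * y := by
  obtain ⟨b, hb⟩ := cd_exists (j := k) hA hg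
  obtain ⟨y1, hy1, e1⟩ := hb
  have hb : Cd A k g b := ⟨y1, hy1, e1⟩
  have hkp : half chevE6 ≤ (k : ℕ) := hA.1 hk
  have cancel : ∀ y : ↥(chevE6.group K), g = orbEl q k b * y → Fx q k b → σE6 hq hK y = y := by
    intro y e hf
    have := congrArg (σE6 hq hK) e
    rw [hσ, map_mul, orbEl_fixed hq hK hkp hf, e] at this
    exact (mul_left_cancel this).symm
  by_cases h : rho k = k
  · have hs : σE6 hq hK y1 ∈ UR K (A \ {k}) :=
      sig_UR hq hK (A := A \ {k}) (B := A \ {k}) (fun s hs => ⟨hAr s hs.1, fun e => hs.2 (by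
        have e' : rho s = k := e
        show s = k
        rw [← rho_rho s, e', h])⟩) hy1
    have hf : b ^ q = b := by
      have hb' : Cd A k g (b ^ q) := ⟨_, hs, by rw [← hσ, e1, map_mul, sig_xR, h]⟩
      exact cd_unique hA h1 hk hb' hb
    have e2 : g = orbEl q k b * y1 := by rw [orbEl_fix h]; exact e1
    exact ⟨b, hb, fun _ => hf, y1, by rwa [h, Set.pair_eq_singleton], cancel _ e2 (fun _ => hf), e2⟩
  · have hk' : rho k ∈ A \ {k} := ⟨hAr k hk, h⟩
    have hset : (A \ {k}) \ {rho k} = A \ {k, rho k} := by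
      ext s; simp only [Set.mem_sdiff, Set.mem_singleton_iff, Set.mem_insert_iff]; tauto
    obtain ⟨b', y, hy, -, e2⟩ := (chevRel certE6 K).split_at h1 (rho k) hy1
    rw [hset] at hy
    have hs : σE6 hq hK y ∈ UR K (A \ {k, rho k}) :=
      sig_UR hq hK (A := A \ {k, rho k}) (B := A \ {k, rho k}) (fun s hs => ⟨hAr s hs.1, fun e => hs.2 (by
        simp only [Set.mem_insert_iff, Set.mem_singleton_iff] at e ⊢
        rcases e with e | e
        · right; rw [← e, rho_rho]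
        · left; rw [← rho_rho s, e, rho_rho])⟩) hy
    have hs' : Cd A k (σE6 hq hK y) 0 :=
      cd_zero ((chevRel certE6 K).US_mono (S := A \ {k, rho k}) (T := A \ {k})
        (fun s hs => ⟨hs.1, fun e => hs.2 (Or.inl e)⟩) hs)
    have hbb : b = b' ^ q := by
      have hd : Cd A k g (0 + (b' ^ q + 0)) := by
        rw [← hσ, e1, e2, map_mul, map_mul, sig_xR]
        exact cd_mul hA h1 hk (cd_zero ((chevRel certE6 K).xe_mem_US hk' _))
          (cd_mul hA h1 hk (by rw [show (chevRel certE6 K).xe (rho k : ℕ) b' = xR (rho k) b' from rfl, sig_xR, rho_rho]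
                               exact cd_gen _) hs')
      rw [zero_add, add_zero] at hd
      exact cd_unique hA h1 hk hb hd
    have hf : Fx q k b := fun e => absurd e h
    have e3 : g = orbEl q k b * y := by
      rw [orbEl_pair h, hbb, pow_qq hK, e1, e2, ← hbb, mul_assoc]
    exact ⟨b, hb, hf, y, hy, cancel _ e3 hf, e3⟩

end CfsgLib.Lie.Chev.TwGroups.E6Inv
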