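/-
Coordinates of commutators of root elements.
-/
import Cfsg.Agent.Lib.Lie.Twisted.E6Inv.Orbit

set_option autoImplicit false

namespace CfsgLib.Lie.Chev.TwGroups.E6Inv

open Cfsg.Lie
open CfsgLib.Lie.Chev.Inv2

variable {K : Type*} [Field K] [CharP K 2] {A W : Set Root} {j p s : Root}
  (hp : half chevE6 ≤ (p : ℕ)) (hs : half chevE6 ≤ (s : ℕ))

include hp hs in
theorem br_mem (hW : inn chevE6 auxE6 p s = -1 → ∀ u : Root, sumR p s = u → half chevE6 ≤ (u : ℕ) →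
    lev u = lev p + lev s → (∀ l : ℕ, inn chevE6 auxE6 l u = inn chevE6 auxE6 l p + inn chevE6 auxE6 l s) → u ∈ W)
    (a t : K) : br (xR p a) (xR s t) ∈ UR K W := by
  by_cases hi : inn chevE6 auxE6 p s = -1
  · obtain ⟨u, hu, e1, e2, e3, e4⟩ := br_eq_sum (K := K) hp hs hi
    rw [e4]
    exact (chevRel certE6 K).xe_mem_US (hW hi u e1 hu e2 e3) _
  · rw [br_eq_one hp hs hi]; exact one_mem _

include hp hs in
theorem br_hit (hi : inn chevE6 auxE6 p s = -1) (hj : sumR p s = j) (a t : K) :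
    Cd A j (br (xR p a) (xR s t)) (a * t) := by
  obtain ⟨u, -, e1, -, -, e4⟩ := br_eq_sum (K := K) hp hs hi
  have e : u = j := Fin.ext (e1.symm.trans hj)
  rw [e4, e]
  exact cd_gen _

include hp hs in
theorem br_miss (hW : inn chevE6 auxE6 p s = -1 → ∀ u : Root, sumR p s = u → half chevE6 ≤ (u : ℕ) →
    lev u = lev p + lev s → (∀ l : ℕ, inn chevE6 auxE6 l u = inn chevE6 auxE6 l p + inn chevE6 auxE6 l s) →
    u ∈ A \ {j}) (a t : K) : Cd A j (br (xR p a) (xR s t)) 0 :=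
  cd_zero (br_mem hp hs hW a t)

omit hp hs
variable (hA : PosClosed chevE6 A) (hj : PosClosed chevE6 (A \ {j})) (hjA : j ∈ A)

include hA hj hjA in
theorem cd_br_right {x g1 g2 : ↥(chevE6.group K)} {b1 b2 : K} (h1 : Cd A j (br x g1) b1)
    (h2 : Cd A j (g1 * br x g2 * g1⁻¹) b2) : Cd A j (br x (g1 * g2)) (b1 + b2) := by
  rw [br_mul_right]; exact cd_mul hA hj hjA h1 h2

include hA hj hjA in
theorem cd_br_left {x1 x2 g : ↥(chevE6.group K)} {b1 b2 : K} (h1 : Cd A j (br x1 g) b1)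
    (h2 : Cd A j (x1 * br x2 g * x1⁻¹) b2) : Cd A j (br (x1 * x2) g) (b2 + b1) := by
  rw [br_mul_left]; exact cd_mul hA hj hjA h2 h1

end CfsgLib.Lie.Chev.TwGroups.E6Inv
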