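/-
Moves between products over orthogonal orbits of `²E₆` (found by a search, checked by the kernel).
-/
import Mathlib.Data.List.Basic

set_option autoImplicit false

namespace CfsgLib.Lie.Chev.TwGroups.E6Inv

/-- a move -/
inductive Move where
  | rep
  | byRoot (d j : ℕ)
  | byRefl (k j : ℕ)

/-- part of the list -/
def moves0 : List (List ℕ × Move) := [
  ([], .rep),
  ([55,65,67], .rep),
  ([66,68], .rep),
  ([66,68,71], .rep),
  ([71], .rep),
  ([53,66,68], (.byRefl 3 1)),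
  ([54,64,69], (.byRefl 2 1)),
  ([55,63,67], (.byRefl 1 1)),
  ([55,65,66,67,68], (.byRoot 36 1)),
  ([55,67], (.byRefl 3 2)),
  ([66,68,70], (.byRefl 0 3)),
  ([70], (.byRefl 0 4)),
  ([51,66,68], (.byRefl 3 7)),
  ([52,62,70], (.byRefl 1 6)),
  ([53,55,66,67,68], (.byRefl 3 8)),
  ([54,63,64], (.byRefl 2 7)),
  ([54,64], (.byRefl 2 9)),
  ([55,60,67], (.byRefl 0 7)),
  ([55,63,66,67,68], (.byRoot 36 7)),
  ([66,68,69], (.byRefl 1 10)),
  ([69], (.byRefl 1 11)),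
  ([44,66,68], (.byRefl 3 17)),
  ([45,59,71], (.byRefl 0 13)),
  ([47,66,68], (.byRefl 2 12)),
  ([49,61,70], (.byRefl 2 13)),
  ([51,54,64], (.byRefl 3 15)),
  ([51,55,66,67,68], (.byRefl 3 18)),
  ([52,62], (.byRefl 1 16)),
  ([52,62,65], (.byRefl 1 15)),
  ([53,54,64,66,68], (.byRefl 2 14)),
  ([54,60,64], (.byRefl 2 17)),
  ([65], (.byRefl 2 20)),
  ([65,66,68], (.byRefl 2 19)),
  ([39,66,68], (.byRefl 2 21)),
  ([41,58,71], (.byRefl 2 22)),
  ([44,54,64], (.byRefl 3 30)),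
  ([45,59], (.byRefl 0 27)),
  ([45,59,65], (.byRefl 0 28)),
  ([46,66,68], (.byRefl 1 23)),
  ([47,54,64,66,68], (.byRefl 2 26)),
  ([47,55,67], (.byRefl 2 25)),
  ([48,50,70], (.byRefl 3 24)),
  ([49,61], (.byRefl 2 27)),
  ([49,61,69], (.byRefl 2 28)),
  ([51,52,62,66,68], (.byRefl 1 29)),
  ([51,54,55,64,67], (.byRoot 37 25)),
  ([52,53,62], (.byRefl 3 28)),
  ([52,60,62], (.byRefl 1 30)),
  ([53], (.byRefl 3 31)),
  ([53,55,67], (.byRefl 3 32))]

/-- part of the list -/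
def moves1 : List (List ℕ × Move) := [
  ([53,65,66,68], (.byRoot 36 29)),
  ([63], (.byRefl 1 31)),
  ([63,66,68], (.byRefl 1 32)),
  ([65,69], (.byRoot 37 32)),
  ([38,57,71], (.byRefl 1 34)),
  ([39,55,67], (.byRefl 2 35)),
  ([40,43,71], (.byRefl 3 34)),
  ([41,58], (.byRefl 2 36)),
  ([41,58,69], (.byRefl 2 37)),
  ([44,45,59,66,68], (.byRefl 0 44)),
  ([44,52,62], (.byRefl 3 47)),
  ([45,53,59], (.byRefl 3 37)),
  ([45,59,63], (.byRefl 0 47)),
  ([46,52,62,66,68], (.byRefl 1 39)),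
  ([46,55,67], (.byRefl 1 40)),
  ([47,49,61,66,68], (.byRefl 2 44)),
  ([47,54,55,64,67], (.byRefl 2 45)),
  ([48,50], (.byRefl 3 42)),
  ([48,50,69], (.byRefl 3 43)),
  ([49,53,61], (.byRefl 2 46)),
  ([49,60,61], (.byRefl 2 47)),
  ([51], (.byRefl 3 51)),
  ([51,55,67], (.byRefl 3 52)),
  ([51,63,66,68], (.byRoot 36 44)),
  ([52,53,54,62,64,65,71], (.byRoot 36 46)),
  ([53,54,64], (.byRefl 2 49)),
  ([53,65,69], (.byRoot 37 50)),
  ([53,69], (.byRoot 38 49)),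
  ([60], (.byRefl 0 51)),
  ([60,66,68], (.byRefl 0 52)),
  ([63,70], (.byRoot 40 52)),
  ([36,56,71], (.byRefl 2 54)),
  ([37,42,71], (.byRefl 3 54)),
  ([38,57], (.byRefl 1 57)),
  ([38,57,70], (.byRefl 1 58)),
  ([39,41,58,66,68], (.byRefl 2 59)),
  ([39,49,61], (.byRefl 2 60)),
  ([40,43], (.byRefl 3 57)),
  ([40,43,69], (.byRefl 3 58)),
  ([41,53,58], (.byRefl 2 61)),
  ([41,58,63], (.byRefl 2 62)),
  ([44], (.byRefl 3 78)),
  ([44,48,50], (.byRefl 3 70)),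
  ([44,55,67], (.byRefl 3 79)),
  ([44,60,66,68], (.byRoot 36 59)),
  ([45,51,59], (.byRefl 3 62)),
  ([45,53,54,59,64,65,70], (.byRoot 36 61)),
  ([46,49,61,66,68], (.byRefl 2 63)),
  ([46,52,55,62,67], (.byRefl 1 66)),
  ([46,54,64], (.byRefl 2 64))]

/-- part of the list -/
def moves2 : List (List ℕ × Move) := [
  ([47], (.byRefl 2 71)),
  ([47,48,50,55,67], (.byRefl 3 65)),
  ([47,54,64], (.byRefl 2 72)),
  ([47,63,66,68], (.byRoot 38 65)),
  ([48,50,65], (.byRefl 2 68)),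
  ([49,51,61], (.byRefl 1 69)),
  ([49,53,55,61,67,69,71], (.byRoot 38 69)),
  ([51,52,62], (.byRefl 1 75)),
  ([51,63,70], (.byRoot 40 73)),
  ([51,70], (.byRoot 41 72)),
  ([52,53,62,65,71], (.byRoot 39 74)),
  ([53,65], (.byRoot 36 75)),
  ([60,71], (.byRoot 48 79)),
  ([36,56], (.byRefl 2 83)),
  ([36,56,70], (.byRefl 2 84)),
  ([37,42], (.byRefl 3 83)),
  ([37,42,70], (.byRefl 3 84)),
  ([38,51,57], (.byRefl 1 89)),
  ([38,57,65], (.byRefl 1 90)),
  ([39], (.byRefl 2 91)),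
  ([39,40,43,55,67], (.byRefl 3 85)),
  ([39,48,50], (.byRefl 2 92)),
  ([39,54,64], (.byRefl 2 93)),
  ([39,60,66,68], (.byRoot 38 85)),
  ([40,43,51], (.byRefl 3 90)),
  ([40,43,65], (.byRefl 2 88)),
  ([41,44,58], (.byRefl 0 105)),
  ([41,47,58], (.byRefl 2 95)),
  ([41,53,55,58,67,69,70], (.byRoot 38 89)),
  ([44,45,59], (.byRefl 0 107)),
  ([44,60,71], (.byRoot 48 94)),
  ([44,71], (.byRoot 49 93)),
  ([45,51,52,59,62,63,69], (.byRoot 36 95)),
  ([45,53,59,65,70], (.byRoot 47 96)),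
  ([46], (.byRefl 1 100)),
  ([46,48,50,55,67], (.byRefl 3 97)),
  ([46,49,54,61,64], (.byRefl 2 98)),
  ([46,52,62], (.byRefl 1 102)),
  ([46,65,66,68], (.byRoot 41 97)),
  ([47,49,61], (.byRefl 2 107)),
  ([47,51,55,67], (.byRoot 37 101)),
  ([47,52,62], (.byRefl 2 105)),
  ([47,63,70], (.byRoot 40 103)),
  ([47,70], (.byRoot 45 102)),
  ([48,50,63], (.byRefl 1 104)),
  ([48,50,65,66,68,69], (.byRoot 37 104)),
  ([49,51,52,61,62,63], (.byRoot 36 105)),
  ([49,51,55,61,67,70,71], (.byRoot 41 105)),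
  ([49,53,55,61,67,69], (.byRoot 47 106)),
  ([51,54,63,64,71], (.byRefl 1 110))]

/-- part of the list -/
def moves3 : List (List ℕ × Move) := [
  ([51,63], (.byRoot 36 107)),
  ([52,53,62,65], (.byRoot 51 110)),
  ([36,47,56], (.byRefl 2 117)),
  ([36,56,69], (.byRefl 2 118)),
  ([37,42,53], (.byRefl 3 118)),
  ([37,42,63], (.byRefl 1 125)),
  ([38,44,57], (.byRefl 0 117)),
  ([38,46,57], (.byRefl 1 127)),
  ([38,51,55,57,67,69,70], (.byRoot 41 117)),
  ([39,41,58], (.byRefl 2 129)),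
  ([39,44,55,67], (.byRoot 37 120)),
  ([39,45,59], (.byRefl 2 126)),
  ([39,60,71], (.byRoot 48 123)),
  ([39,71], (.byRoot 52 122)),
  ([40,43,47], (.byRefl 2 124)),
  ([40,43,60], (.byRefl 0 144)),
  ([40,43,65,66,68,69], (.byRoot 37 125)),
  ([41,44,45,58,59,60], (.byRoot 36 126)),
  ([41,44,55,58,67,70,71], (.byRoot 49 126)),
  ([41,47,49,58,61], (.byRoot 46 127)),
  ([41,53,55,58,67,69], (.byRoot 39 128)),
  ([44,54,60,64,70], (.byRefl 0 149)),
  ([44,60], (.byRoot 36 129)),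
  ([45,51,59,63,69], (.byRoot 46 132)),
  ([45,53,59,65], (.byRoot 44 133)),
  ([46,48,50,54,64], (.byRefl 3 136)),
  ([46,49,61], (.byRefl 2 137)),
  ([46,53,55,67], (.byRoot 40 135)),
  ([46,65,69], (.byRoot 37 138)),
  ([46,69], (.byRoot 45 137)),
  ([47,48,50], (.byRefl 3 139)),
  ([47,51,70], (.byRoot 41 140)),
  ([47,52,54,62,64], (.byRoot 39 141)),
  ([47,55,63,67,71], (.byRefl 2 149)),
  ([47,63], (.byRoot 38 139)),
  ([48,50,51,52,62,63], (.byRefl 3 146)),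
  ([48,50,63,66,68,70], (.byRoot 40 144)),
  ([48,50,65,66,68,69,71], (.byRoot 47 145)),
  ([49,51,52,55,61,62,67,70,71], (.byRoot 37 147)),
  ([49,51,55,61,67,70], (.byRoot 46 147)),
  ([49,53,61,69], (.byRoot 44 148)),
  ([51,54,63,64], (.byRoot 53 149)),
  ([36,39,56], (.byRefl 2 156)),
  ([36,46,56], (.byRefl 2 157)),
  ([36,47,54,56,64,65,70], (.byRoot 45 152)),
  ([37,42,46], (.byRefl 1 164)),
  ([37,42,60], (.byRefl 0 155)),
  ([37,42,63,66,68,70], (.byRoot 40 155)),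
  ([38,44,55,57,67,69,71], (.byRoot 49 156)),
  ([38,46,49,57,61], (.byRoot 47 157))]

/-- part of the list -/
def moves4 : List (List ℕ × Move) := [
  ([38,51,57,69,70], (.byRoot 53 158)),
  ([39,40,43], (.byRefl 3 159)),
  ([39,41,49,58,61], (.byRefl 0 169)),
  ([39,44,71], (.byRoot 49 160)),
  ([39,45,54,59,64], (.byRoot 47 161)),
  ([39,55,60,67,70], (.byRefl 2 171)),
  ([39,60], (.byRoot 38 159)),
  ([40,43,44,45,59,60], (.byRefl 3 167)),
  ([40,43,47,48,50,51], (.byRoot 37 164)),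
  ([40,43,60,66,68,71], (.byRoot 48 165)),
  ([40,43,65,66,68,69,70], (.byRoot 39 166)),
  ([41,44,45,55,58,59,67,70,71], (.byRoot 37 168)),
  ([41,44,58,70,71], (.byRoot 51 168)),
  ([41,47,58,63,65], (.byRoot 38 169)),
  ([41,53,58,69], (.byRoot 51 170)),
  ([44,52,60,62,69], (.byRefl 0 173)),
  ([44,54,60,64], (.byRoot 53 171)),
  ([45,51,59,63], (.byRoot 44 173)),
  ([46,48,50], (.byRefl 3 176)),
  ([46,52,54,62,64], (.byRefl 1 182)),
  ([46,53,54,64], (.byRoot 40 175)),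
  ([46,53,69], (.byRoot 38 177)),
  ([46,55,65,67,71], (.byRefl 1 183)),
  ([46,65], (.byRoot 41 176)),
  ([47,48,49,50,61,63], (.byRefl 2 185)),
  ([47,49,52,54,61,62,64,70,71], (.byRefl 2 188)),
  ([47,51], (.byRoot 37 180)),
  ([47,51,66,68,71], (.byRefl 3 183)),
  ([47,52,62,70,71], (.byRoot 45 182)),
  ([47,55,63,67], (.byRoot 53 183)),
  ([48,50,63,66,68,70,71], (.byRoot 46 186)),
  ([48,50,65,69], (.byRoot 60 187)),
  ([49,51,61,70], (.byRoot 44 189)),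
  ([36,39,54,56,64,65,71], (.byRoot 52 192)),
  ([36,46,52,56,62,63,69], (.byRoot 45 193)),
  ([36,47,56,65,70], (.byRoot 53 194)),
  ([37,42,46,48,50,53], (.byRoot 40 195)),
  ([37,42,60,66,68,71], (.byRoot 48 196)),
  ([37,42,63,66,68,69,70], (.byRoot 44 197)),
  ([38,44,57,69,71], (.byRoot 53 198)),
  ([38,46,57,63,65], (.byRoot 41 199)),
  ([38,51,57,70], (.byRoot 60 200)),
  ([39,40,41,43,58,60], (.byRefl 2 207)),
  ([39,41,45,54,58,59,64,70,71], (.byRefl 2 211)),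
  ([39,44], (.byRoot 37 201)),
  ([39,44,66,68,70], (.byRefl 3 205)),
  ([39,45,59,70,71], (.byRoot 52 204)),
  ([39,49,60,61,65], (.byRoot 38 202)),
  ([39,55,60,67], (.byRoot 53 205)),
  ([40,43,47,48,50,51,53], (.byRoot 39 208))]

/-- part of the list -/
def moves5 : List (List ℕ × Move) := [
  ([40,43,60,66,68,70,71], (.byRoot 53 209)),
  ([40,43,65,69], (.byRoot 63 210)),
  ([41,44,58,71], (.byRoot 65 212)),
  ([41,47,58,63], (.byRoot 39 213)),
  ([44,52,60,62], (.byRoot 51 215)),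
  ([46,53], (.byRoot 40 218)),
  ([46,53,65], (.byRoot 36 220)),
  ([46,53,66,68,71], (.byRefl 3 222)),
  ([46,54,64,69,71], (.byRoot 45 219)),
  ([46,55,65,67], (.byRoot 51 222)),
  ([47,48,50,52,54,62,64,70,71], (.byRefl 3 225)),
  ([47,48,50,63], (.byRoot 36 224)),
  ([47,51,66,68], (.byRoot 65 227)),
  ([47,52,62,70], (.byRoot 46 228)),
  ([48,50,63,70], (.byRoot 60 230)),
  ([36,39,56,65,71], (.byRoot 53 233)),
  ([36,46,56,63,69], (.byRoot 51 234)),
  ([36,47,56,70], (.byRoot 60 235)),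
  ([37,42,46,51,53], (.byRoot 47 236)),
  ([37,42,60,66,68,69,71], (.byRoot 51 237)),
  ([37,42,63,70], (.byRoot 65 238)),
  ([38,44,57,71], (.byRoot 63 239)),
  ([38,46,57,65], (.byRoot 60 240)),
  ([39,40,43,45,54,59,64,70,71], (.byRefl 3 243)),
  ([39,40,43,60], (.byRoot 36 242)),
  ([39,44,66,68], (.byRoot 65 245)),
  ([39,45,59,71], (.byRoot 69 246)),
  ([39,49,60,61], (.byRoot 47 247)),
  ([40,43,47,51], (.byRoot 46 249)),
  ([40,43,60,71], (.byRoot 63 250)),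
  ([46,53,66,68], (.byRoot 63 257)),
  ([46,54,64,69], (.byRoot 47 258)),
  ([47,48,50,52,62,70,71], (.byRoot 39 260)),
  ([47,51,63], (.byRoot 37 261)),
  ([36,39,56,71], (.byRoot 63 265)),
  ([36,46,56,69], (.byRoot 60 266)),
  ([37,42,46,53], (.byRoot 44 268)),
  ([37,42,60,71], (.byRoot 65 269)),
  ([39,40,43,45,59,70,71], (.byRoot 47 273)),
  ([39,44,48,50], (.byRefl 0 278)),
  ([39,44,60], (.byRoot 37 274)),
  ([46,48,50,54,64,69,71], (.byRefl 1 282)),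
  ([47,51,52,62,70,71], (.byRoot 37 282)),
  ([39,44,45,59,70,71], (.byRoot 37 288)),
  ([46,53,54,64,69,71], (.byRoot 40 291)),
  ([47,51,63,70,71], (.byRoot 36 292)),
  ([39,44,60,70,71], (.byRoot 36 293)),
  ([46,53,65,69,71], (.byRoot 36 294)),
  ([47,51,63,70], (.byRoot 46 295)),
  ([39,44,60,71], (.byRoot 53 296))]

/-- part of the list -/
def moves6 : List (List ℕ × Move) := [
  ([46,53,65,69], (.byRoot 47 297))]

/-- the list -/
def moves : List (List ℕ × Move) := moves0 ++ moves1 ++ moves2 ++ moves3 ++ moves4 ++ moves5 ++ moves6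

/-- part of the list -/
def orthSets0 : List (List ℕ) := [
  [],
  [39],
  [44],
  [46],
  [47],
  [51],
  [53],
  [60],
  [63],
  [65],
  [69],
  [70],
  [71],
  [36,56],
  [37,42],
  [38,57],
  [39,44],
  [39,60],
  [39,71],
  [40,43],
  [41,58],
  [44,60],
  [44,71],
  [45,59],
  [46,53],
  [46,65],
  [46,69],
  [47,51],
  [47,63],
  [47,70],
  [48,50],
  [49,61],
  [51,63],
  [51,70],
  [52,62],
  [53,65],
  [53,69],
  [54,64],
  [55,67],
  [60,71],
  [63,70],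
  [65,69],
  [66,68],
  [36,39,56],
  [36,46,56],
  [36,47,56],
  [36,56,69],
  [36,56,70],
  [36,56,71],
  [37,42,46]]

/-- part of the list -/
def orthSets1 : List (List ℕ) := [
  [37,42,53],
  [37,42,60],
  [37,42,63],
  [37,42,70],
  [37,42,71],
  [38,44,57],
  [38,46,57],
  [38,51,57],
  [38,57,65],
  [38,57,70],
  [38,57,71],
  [39,44,60],
  [39,44,71],
  [39,45,59],
  [39,48,50],
  [39,49,61],
  [39,55,67],
  [39,60,71],
  [39,66,68],
  [40,43,47],
  [40,43,51],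
  [40,43,60],
  [40,43,65],
  [40,43,69],
  [40,43,71],
  [41,44,58],
  [41,47,58],
  [41,53,58],
  [41,58,63],
  [41,58,69],
  [41,58,71],
  [44,48,50],
  [44,52,62],
  [44,54,64],
  [44,60,71],
  [44,66,68],
  [45,51,59],
  [45,53,59],
  [45,59,63],
  [45,59,65],
  [45,59,71],
  [46,53,65],
  [46,53,69],
  [46,54,64],
  [46,55,67],
  [46,65,69],
  [46,66,68],
  [47,51,63],
  [47,51,70],
  [47,52,62]]

/-- part of the list -/
def orthSets2 : List (List ℕ) := [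
  [47,55,67],
  [47,63,70],
  [47,66,68],
  [48,50,63],
  [48,50,65],
  [48,50,69],
  [48,50,70],
  [49,51,61],
  [49,53,61],
  [49,60,61],
  [49,61,69],
  [49,61,70],
  [51,54,64],
  [51,63,70],
  [51,66,68],
  [52,53,62],
  [52,60,62],
  [52,62,65],
  [52,62,70],
  [53,65,69],
  [53,66,68],
  [54,60,64],
  [54,63,64],
  [54,64,69],
  [55,60,67],
  [55,63,67],
  [55,65,67],
  [36,39,56,71],
  [36,46,56,69],
  [36,47,56,70],
  [37,42,46,53],
  [37,42,60,71],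
  [37,42,63,70],
  [38,44,57,71],
  [38,46,57,65],
  [38,51,57,70],
  [39,44,48,50],
  [39,44,60,71],
  [39,44,66,68],
  [39,45,59,71],
  [39,49,60,61],
  [39,55,60,67],
  [40,43,47,51],
  [40,43,60,71],
  [40,43,65,69],
  [41,44,58,71],
  [41,47,58,63],
  [41,53,58,69],
  [44,52,60,62],
  [44,54,60,64]]

/-- part of the list -/
def orthSets3 : List (List ℕ) := [
  [45,51,59,63],
  [45,53,59,65],
  [46,53,65,69],
  [46,53,66,68],
  [46,54,64,69],
  [46,55,65,67],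
  [47,51,63,70],
  [47,51,66,68],
  [47,52,62,70],
  [47,55,63,67],
  [48,50,63,70],
  [48,50,65,69],
  [49,51,61,70],
  [49,53,61,69],
  [51,54,63,64],
  [52,53,62,65]]

/-- the list -/
def orthSets : List (List ℕ) := orthSets0 ++ orthSets1 ++ orthSets2 ++ orthSets3

end CfsgLib.Lie.Chev.TwGroups.E6Inv
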