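/-
One step of the reduction: the coordinates at one height are removed.
-/
import Cfsg.Agent.Lib.Lie.Twisted.E6Inv.Brackets

set_option autoImplicit false

namespace CfsgLib.Lie.Chev.TwGroups.E6Inv

open Cfsg.Lie
open CfsgLib.Lie.Chev.Inv2

variable {L : List Root} {r j : Root} {ℓ : ℤ} (hr : r ∈ oset L (lev r)) (hr' : rho r ∈ oset L (lev r))
  (hℓ : lev r < ℓ)

include hr hr' in
theorem lev_pm {p : Root} (hp : p = r ∨ p = rho r) : lev p = lev r ∧ p ∈ oset L (lev r) := by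
  rcases hp with rfl | rfl
  · exact ⟨rfl, hr⟩
  · exact ⟨lev_rho r, hr'⟩

include hr hr' in
theorem ge_of_inn {p s : Root} (hp : p = r ∨ p = rho r) (hs : s ∈ aset L r ℓ)
    (hi : inn chevE6 auxE6 p s = -1) : ℓ ≤ lev s := by
  refine hs.2.resolve_left fun hz => ?_
  rcases hp with rfl | rfl
  · rw [hz.1] at hi; norm_num at hi
  · rw [hz.2] at hi; norm_num at hi

include hr hr' in
/-- a root of the orbit raises the height by that of `r` -/
theorem sum_up {p s u : Root} (hp : p = r ∨ p = rho r) (hs : s ∈ aset L r ℓ)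
    (hi : inn chevE6 auxE6 p s = -1) (hu : half chevE6 ≤ (u : ℕ)) (h1 : lev u = lev p + lev s)
    (h2 : ∀ l : ℕ, inn chevE6 auxE6 l u = inn chevE6 auxE6 l p + inn chevE6 auxE6 l s) :
    u ∈ aset L r (lev r + ℓ) := by
  obtain ⟨e, ho⟩ := lev_pm hr hr' hp
  have := ge_of_inn hr hr' hp hs hi
  have := (lev_bound hs.1.1).1
  exact ⟨⟨hu, by omega, fun l hl => by rw [h2, ho.2.2 l hl, hs.1.2.2 l hl, add_zero]⟩, Or.inr (by omega)⟩

theorem aset_anti {ℓ' : ℤ} (h : ℓ ≤ ℓ') : aset L r ℓ' ⊆ aset L r ℓ :=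
  fun _ hs => ⟨hs.1, hs.2.imp id fun h' => le_trans h h'⟩

variable {K : Type*} [Field K] [CharP K 2] {q : ℕ}

include hr hr' in
/-- a root element of the orbit fixes coordinates on the elements of height at least `lev r + ℓ` -/
theorem conj_up {p : Root} (hp : p = r ∨ p = rho r) (hj : ¬ Zr r j) (hlev : lev j ≤ lev r + ℓ) (hℓ : lev r < ℓ)
    (hjA : j ∈ aset L r ℓ) {g : ↥(chevE6.group K)} (hg : g ∈ UR K (aset L r (lev r + ℓ))) {b : K}
    (hb : Cd (aset L r ℓ) j g b) (t : K) : Cd (aset L r ℓ) j (xR p t * g * (xR p t)⁻¹) b := by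
  obtain ⟨e, ho⟩ := lev_pm hr hr' hp
  have h1 := (lev_bound hr.1).1
  refine cd_conj (aset_closed L r ℓ) (aset_diff_closed hj hlev hℓ) hjA ho.1 (aset_anti (by omega))
    (fun s hs hi u _ hu h2 h3 => ?_) t hg hb
  have hs' : s ∈ aset L r ℓ := aset_anti (by omega) hs
  have hsl : lev r + ℓ ≤ lev s := hs.2.resolve_left fun hz => by
    rcases hp with rfl | rfl
    · rw [hz.1] at hi; norm_num at hi
    · rw [hz.2] at hi; norm_num at hi
  refine ⟨aset_anti (by omega) (sum_up hr hr' hp hs' hi hu h2 h3), fun e' => ?_⟩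
  have e'' : u = j := e'
  rw [e''] at h2
  omega

include hr hr' hℓ in
/-- the coordinate of a commutator of the orbit element with a generator -/
theorem cd_x_gen (hj : ¬ Zr r j) (hlev : lev j ≤ lev r + ℓ) (hjA : j ∈ aset L r ℓ) {s : Root}
    (hs : s ∈ aset L r ℓ) (c t : K) {b1 b2 : K}
    (h1 : Cd (aset L r ℓ) j (br (xR r c) (xR s t)) b1)
    (h2 : rho r ≠ r → Cd (aset L r ℓ) j (br (xR (rho r) (c ^ q)) (xR s t)) b2) (h0 : rho r = r → b2 = 0) :
    Cd (aset L r ℓ) j (br (orbEl q r c) (xR s t)) (b1 + b2) := by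
  by_cases h : rho r = r
  · rw [orbEl_fix h, h0 h, add_zero]; exact h1
  · rw [orbEl_pair h, add_comm]
    exact cd_br_left (aset_closed L r ℓ) (aset_diff_closed hj hlev hℓ) hjA h1
      (conj_up hr hr' (Or.inl rfl) hj hlev hℓ hjA
        (br_mem hr'.1 hs.1.1 (fun hi u _ hu e2 e3 => sum_up hr hr' (Or.inr rfl) hs hi hu e2 e3) _ _) (h2 h) _)

include hr hr' hℓ in
theorem cd_x_rest (hj : ¬ Zr r j) (hlev : lev j = lev r + ℓ) (hjA : j ∈ aset L r ℓ) (c : K)
    {y : ↥(chevE6.group K)} (hy : y ∈ UR K (aset L r (ℓ + 1))) :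
    Cd (aset L r ℓ) j (br (orbEl q r c) y) 0 := by
  have hA := aset_closed L r ℓ
  have hAj := aset_diff_closed (L := L) hj hlev.le hℓ
  refine closure_induction_symm (chevRel certE6 K).gens_symm ?_ ?_ hy
  · rw [br_one_right]; exact cd_zero (one_mem _)
  · rintro x ⟨s, hs, t, rfl⟩ z hz
    have hs' : s ∈ aset L r ℓ := aset_anti (by omega) hs
    have miss : ∀ p, p = r ∨ p = rho r → ∀ a : K,
        Cd (aset L r ℓ) j (br (xR p a) (xR s t)) 0 := fun p hp a => by
      refine br_miss (lev_pm hr hr' hp).2.1 hs.1.1 (fun hi u _ hu e2 e3 => ?_) a t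
      refine ⟨aset_anti (by have := (lev_bound hr.1).1; omega) (sum_up hr hr' hp hs' hi hu e2 e3), fun e => ?_⟩
      have e' : u = j := e
      have h1 := ge_of_inn hr hr' hp hs hi
      have h2 := (lev_pm hr hr' hp).1
      rw [e'] at e2
      omega
    have h1 := cd_x_gen (q := q) hr hr' hℓ hj hlev.le hjA hs' c t (miss r (Or.inl rfl) c)
      (fun _ => miss (rho r) (Or.inr rfl) (c ^ q)) (fun _ => rfl)
    have h2 := cd_br_right hA hAj hjA h1
      (cd_conj_mem hA hAj hjA ((chevRel certE6 K).xe_mem_US hs' t) hz)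
    simpa using h2

include hr hr' hℓ in
/-- in an involution the coordinate of the commutator vanishes -/
theorem rel_zero (hj : ¬ Zr r j) (hlev : lev j = lev r + ℓ) (hjA : j ∈ aset L r ℓ) (c : K)
    {g y : ↥(chevE6.group K)} (hg : g ∈ UR K (aset L r ℓ)) (hy : y ∈ UR K (aset L r (ℓ + 1)))
    (h2 : orbEl q r c * (g * y) * (orbEl q r c * (g * y)) = 1) {b : K}
    (hb : Cd (aset L r ℓ) j (br (orbEl q r c) g) b) : b = 0 := by
  have hA := aset_closed L r ℓ
  have hAj := aset_diff_closed (L := L) hj hlev.le hℓ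
  have h1 := cd_br_right hA hAj hjA hb
    (cd_conj_mem hA hAj hjA hg (cd_x_rest (q := q) hr hr' hℓ hj hlev hjA c hy))
  rw [add_zero] at h1
  have hgy : g * y ∈ UR K (aset L r ℓ) := mul_mem hg ((chevRel certE6 K).US_mono (aset_anti (by omega)) hy)
  obtain ⟨e, he⟩ := cd_exists (j := j) hA hgy
  have hinv := cd_inv hA hAj hjA he
  have h3 := cd_mul hA hAj hjA hinv hinv
  have e1 : br (orbEl q r c) (g * y) = (g * y)⁻¹ * (g * y)⁻¹ := by
    obtain ⟨v, hv⟩ : ∃ v, v = g * y := ⟨_, rfl⟩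
    rw [← hv] at h2 ⊢
    simp only [br]
    rw [orbEl_inv hr.1, eq_inv_of_mul_eq_one_left (show orbEl q r c * v * orbEl q r c * v = 1 by
      rw [← h2]; group)]
  rw [← e1, CharTwo.add_self_eq_zero] at h3
  exact cd_unique hA hAj hjA h1 h3

end CfsgLib.Lie.Chev.TwGroups.E6Inv
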