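/-
Conjugacy in `²E₆` of the products over orthogonal orbits with parameters one.
-/
import Cfsg.Agent.Lib.Lie.Twisted.E6Inv.Orbit
import Cfsg.Agent.Lib.Lie.Twisted.E6Inv.Data
import Cfsg.Agent.Lib.Lie.CharTwoTree.Tree

set_option autoImplicit false
set_option maxRecDepth 100000

namespace CfsgLib.Lie.Chev.TwGroups.E6Inv

open Cfsg.Lie
open CfsgLib.Lie.Chev.Inv2
open CfsgLib.Lie.Chev.InvTree (memN ones memN_iff)
open MonCollect (chkSame)

/-- representatives before the last fusion -/
def reps4 : List (List ℕ) := [[71], [66, 68], [55, 65, 67], [66, 68, 71]]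

/-- the roots of an orbit -/
def orbList (d : ℕ) : List ℕ := bif Nat.beq (rhoN d) d then [d] else [d, rhoN d]

/-- a set of roots in increasing order -/
def sortedOf (S : List ℕ) : List ℕ := (List.range' (half chevE6) (half chevE6)).filter fun r => memN r S

/-- image under a generator of the twisted Weyl group -/
def wpE (k r : ℕ) : ℕ := (wordsTE6.getD k []).foldr (fun i x => auxE6.w i x) r

/-- the check of one move -/
def chkMove (own : ℕ) : Bool :=
  match moves.getD own ([], .rep) with
  | (T, .rep) => T.isEmpty || reps4.any fun P => decide (P = T)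
  | (T, .byRoot d j) => Nat.blt j own && Nat.blt d chevE6.nroots && Nat.ble (half chevE6) d &&
      chkSame chevE6 (ones (orbList d ++ T ++ orbList d)) (ones (moves.getD j ([], .rep)).1)
  | (T, .byRefl k j) => Nat.blt j own && Nat.blt k 4 && T.all (fun r => Nat.blt r chevE6.nroots) &&
      chkSame chevE6 (ones (T.map (wpE k))) (ones (moves.getD j ([], .rep)).1)

/-- the sets of orthogonal orbits are listed -/
def chkSets : Bool :=
  orthSets.any (fun S => S.isEmpty) &&
    (orthSets.all fun S => (List.range' (half chevE6) (half chevE6)).all fun r =>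
      !(S.all fun s => decide (inn chevE6 auxE6 r s = 0) && decide (inn chevE6 auxE6 (rhoN r) s = 0)) ||
        orthSets.any fun S' => decide (S' = sortedOf (r :: rhoN r :: S))) &&
    orthSets.all fun S => S.isEmpty || moves.any fun p => decide (p.1 = S)

theorem moves_ok : (List.range moves.length).all chkMove = true := by decide +kernel

theorem sets_ok : chkSets = true := by decide +kernel

/-- conjugacy by an element of a subgroup -/
def Cj {G : Type*} [Group G] (P : Subgroup G) (x y : G) : Prop := ∃ g ∈ P, g * x * g⁻¹ = y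

theorem Cj.trans {G : Type*} [Group G] {P : Subgroup G} {x y z : G} (h : Cj P x y) (h' : Cj P y z) : Cj P x z := by
  obtain ⟨g, hg, rfl⟩ := h
  obtain ⟨g', hg', rfl⟩ := h'
  exact ⟨g' * g, mul_mem hg' hg, by group⟩

theorem Cj.refl {G : Type*} [Group G] (P : Subgroup G) (x : G) : Cj P x x := ⟨1, one_mem _, by group⟩

variable {K : Type*} [Field K]

/-- product with parameters one -/
abbrev pOne (T : List ℕ) : ↥(chevE6.group K) := (chevRel certE6 K).prodOnes T

/-- lift of a generator of the twisted Weyl group -/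
def nE (K : Type*) [Field K] (k : ℕ) : ↥(chevE6.group K) :=
  ((wordsTE6.getD k []).map fun i => (chevRel certE6 K).ne (chevE6.simple i) 1).prod

theorem orbEl_one {q : ℕ} (d : Root) : orbEl q d (1 : K) = pOne (orbList d) := by
  unfold orbEl orbList
  by_cases h : rho d = d
  · have h' : rhoN d = d := congrArg Fin.val h
    rw [if_pos h, nat_beq_iff.2 h', cond_true]
    simp [pOne, Rel.prodOnes, xR]
  · have h' : rhoN d ≠ d := fun e => h (Fin.ext e)
    rw [if_neg h, Bool.eq_false_iff.2 fun e => h' (nat_beq_iff.1 e), cond_false]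
    simp [pOne, Rel.prodOnes, xR, rho]

variable [CharP K 2]

theorem nE_conj {k : ℕ} (hk : k < 4) {T : List ℕ} (hT : ∀ r ∈ T, r < chevE6.nroots) :
    nE K k * pOne T * (nE K k)⁻¹ = pOne (T.map (wpE k)) := by
  have hw : ∀ i ∈ wordsTE6.getD k [], i < chevE6.rank := by
    have h : ∀ k < 4, ∀ i ∈ wordsTE6.getD k [], i < chevE6.rank := by decide +kernel
    exact h k hk
  have key : ∀ w : List ℕ, (∀ i ∈ w, i < chevE6.rank) → ∀ r, r < chevE6.nroots →
      (w.map fun i => (chevRel certE6 K).ne (chevE6.simple i) 1).prod * (chevRel certE6 K).xe r 1 *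
        ((w.map fun i => (chevRel certE6 K).ne (chevE6.simple i) 1).prod)⁻¹ =
        (chevRel certE6 K).xe (w.foldr (fun i x => auxE6.w i x) r) 1 ∧
      w.foldr (fun i x => auxE6.w i x) r < chevE6.nroots := by
    intro w
    induction w with
    | nil => intro _ r hr; simpa using hr
    | cons i w ih =>
      intro hw r hr
      obtain ⟨e, hlt⟩ := ih (fun a ha => hw a (List.mem_cons_of_mem _ ha)) r hr
      have hi := hw i List.mem_cons_self
      refine ⟨?_, certE6.w_lt hi hlt⟩
      rw [List.map_cons, List.prod_cons, List.foldr_cons,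
        ← (chevRel certE6 K).ne_conj_one ⟨i, hi⟩ hlt, ← e]
      group
  simp only [pOne, Rel.prodOnes, List.map_map]
  rw [← MulAut.conj_apply, map_list_prod, List.map_map]
  exact congrArg List.prod (List.map_congr_left fun r hr => (key _ hw r (hT r hr)).1)

variable [Fintype K] {q : ℕ} (hq : IsPrimePow q) (hK : Fintype.card K = q ^ 2)

theorem fixed_mem {g : ↥(chevE6.group K)} {A : Set Root} (hA : ∀ r ∈ A, half chevE6 ≤ (r : ℕ))
    (hg : g ∈ UR K A) (hσ : σE6 hq hK g = g) : g ∈ (twE6 hq hK).P1 :=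
  (twE6 hq hK).mem_P1_of_fixed_UP ((chevRel certE6 K).US_mono (S := A) (T := posSet chevE6) hA hg) hσ

theorem orbEl_P1 {r : Root} (hr : half chevE6 ≤ (r : ℕ)) {c : K} (hc : Fx q r c) :
    orbEl q r c ∈ (twE6 hq hK).P1 :=
  fixed_mem hq hK (A := posSet chevE6) (fun _ h => h) (orbEl_mem (show r ∈ posSet chevE6 from hr) (show rho r ∈ posSet chevE6 from rho_pos.2 hr) c) (orbEl_fixed hq hK hr hc)

theorem nE_mem {k : ℕ} (hk : k < 4) : nE K k ∈ (twE6 hq hK).P1 := by
  show nE K k ∈ (twistedE6 K q).subgroupOf (chevE6.group K)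
  obtain ⟨⟨n46, n39, n56⟩, ⟨n36, n42, n37⟩, -⟩ := heDataE6
  obtain ⟨⟨c1, c1'⟩, -, ⟨c2, c3⟩, ⟨c2', c3'⟩⟩ := commE6
  obtain ⟨⟨⟨s0, s1, s2⟩, ⟨s3, s4, s5⟩⟩, -⟩ := simpleE6
  have single : ∀ r r' : ℕ, r ∈ [e6p2, e6m2, e6p4, e6m4] → r' ∈ [e6p2, e6m2, e6p4, e6m4] → chevE6.neg r = r' →
      (chevRel certE6 K).ne r 1 ∈ (twistedE6 K q).subgroupOf (chevE6.group K) := by
    intro r r' hr hr' hn
    show xG certE6 K r 1 * xG certE6 K (chevE6.neg r) (-(1 : K)⁻¹) * xG certE6 K r 1 ∈ _
    rw [hn]
    exact mul_mem (mul_mem (wordE6_single_mem hr (one_pow q))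
      (wordE6_single_mem hr' (by rw [inv_one, neg_pow_E6 hq hK, one_pow]))) (wordE6_single_mem hr (one_pow q))
  have pair : ∀ a b a' b' : ℕ, (a, b) ∈ [(e6p1, e6p6), (e6m1, e6m6), (e6p3, e6p5), (e6m3, e6m5)] →
      (a', b') ∈ [(e6p1, e6p6), (e6m1, e6m6), (e6p3, e6p5), (e6m3, e6m5)] → chevE6.neg a = a' → chevE6.neg b = b' →
      chkNoTerms chevE6 a b = true → chkNoTerms chevE6 a (chevE6.neg b) = true →
      chkNoTerms chevE6 (chevE6.neg a) b = true →
      (chevRel certE6 K).ne a 1 * (chevRel certE6 K).ne b 1 ∈ (twistedE6 K q).subgroupOf (chevE6.group K) := by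
    intro a b a' b' hab hab' ha hb d1 d2 d3
    rw [← ne_pair certE6 d1 d2 d3, ha, hb]
    have h1 := wordE6_pair_mem (K := K) (q := q) hab 1
    have h2 := wordE6_pair_mem (K := K) (q := q) hab' (-(1 : K)⁻¹)
    rw [one_pow] at h1
    rw [neg_pow_E6 hq hK, inv_pow, one_pow] at h2
    exact mul_mem (mul_mem h1 h2) h1
  interval_cases k
  · show ([1].map fun i => (chevRel certE6 K).ne (chevE6.simple i) 1).prod ∈ _
    simpa [s1] using single 46 25 (by decide) (by decide) n46
  · show ([3].map fun i => (chevRel certE6 K).ne (chevE6.simple i) 1).prod ∈ _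
    simpa [s3] using single 39 32 (by decide) (by decide) n39
  · show ([2, 4].map fun i => (chevRel certE6 K).ne (chevE6.simple i) 1).prod ∈ _
    simpa [s2, s4] using pair 42 37 29 34 (by decide) (by decide) n42 n37 c1' c2' c3'
  · show ([0, 5].map fun i => (chevRel certE6 K).ne (chevE6.simple i) 1).prod ∈ _
    simpa [s0, s5] using pair 56 36 15 35 (by decide) (by decide) n56 n36 c1 c2 c3

/-- every listed product is conjugate to one of the representatives -/
theorem move_spec : ∀ m, m < moves.length → pOne (K := K) (moves.getD m ([], .rep)).1 = 1 ∨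
    ∃ P ∈ reps4, Cj (twE6 hq hK).P1 (pOne (moves.getD m ([], .rep)).1) (pOne P) := by
  intro m
  induction m using Nat.strong_induction_on with
  | _ m ih =>
    intro hm
    have h := moves_ok
    simp only [List.all_eq_true, List.mem_range] at h
    have hc := h m hm
    rcases hT : moves.getD m ([], .rep) with ⟨T, mv⟩
    simp only [chkMove, hT] at hc
    have step : ∀ j, j < m → Cj (twE6 hq hK).P1 (pOne T) (pOne (moves.getD j ([], .rep)).1) →
        pOne (K := K) T = 1 ∨ ∃ P ∈ reps4, Cj (twE6 hq hK).P1 (pOne T) (pOne P) := fun j hj e => by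
      rcases ih j hj (hj.trans hm) with h1 | ⟨P, hP, hc⟩
      · obtain ⟨g, -, hg⟩ := e
        rw [h1] at hg
        exact Or.inl (conj_eq_one_iff.1 hg)
      · exact Or.inr ⟨P, hP, e.trans hc⟩
    cases mv with
    | rep =>
      simp only [Bool.or_eq_true, List.isEmpty_iff, List.any_eq_true, decide_eq_true_iff] at hc
      rcases hc with rfl | ⟨P, hP, rfl⟩
      · exact Or.inl (by simp [pOne, Rel.prodOnes])
      · exact Or.inr ⟨P, hP, Cj.refl _ _⟩
    | byRoot d j =>
      simp only [Bool.and_eq_true, nat_blt_iff, nat_ble_iff] at hc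
      obtain ⟨⟨⟨hj, hd⟩, hdp⟩, hs⟩ := hc
      refine step j hj ⟨orbEl q (⟨d, hd⟩ : Root) 1, orbEl_P1 hq hK hdp (fun _ => one_pow q), ?_⟩
      have e := MonCollect.word_eq_of_chk (chevRel certE6 K) ([] : List K) hs
      rw [(chevRel certE6 K).word_ones, (chevRel certE6 K).word_ones] at e
      rw [orbEl_inv hdp, orbEl_one]
      refine Eq.trans ?_ e
      simp only [pOne, Rel.prodOnes, List.map_append, List.prod_append]
    | byRefl k j =>
      simp only [Bool.and_eq_true, nat_blt_iff, List.all_eq_true] at hc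
      obtain ⟨⟨⟨hj, hk⟩, hlt⟩, hs⟩ := hc
      refine step j hj ⟨nE K k, nE_mem hq hK hk, ?_⟩
      have e := MonCollect.word_eq_of_chk (chevRel certE6 K) ([] : List K) hs
      rw [(chevRel certE6 K).word_ones, (chevRel certE6 K).word_ones] at e
      exact (nE_conj hk hlt).trans e

theorem listed {S : List ℕ} (hS : S ∈ orthSets) : pOne (K := K) S = 1 ∨
    ∃ P ∈ reps4, Cj (twE6 hq hK).P1 (pOne S) (pOne P) := by
  have h := sets_ok
  simp only [chkSets, Bool.and_eq_true, List.all_eq_true, Bool.or_eq_true, List.any_eq_true, decide_eq_true_iff,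
    List.isEmpty_iff] at h
  rcases h.2 S hS with rfl | ⟨p, hp, rfl⟩
  · exact Or.inl (by simp [pOne, Rel.prodOnes])
  · obtain ⟨m, hm, e⟩ := List.mem_iff_getElem.1 hp
    have := move_spec (K := K) hq hK m hm
    rwa [List.getD_eq_getElem _ _ hm, e] at this

end CfsgLib.Lie.Chev.TwGroups.E6Inv
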