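/-
The scalars of a product over orthogonal orbits are removed by the fixed torus; the product is then listed.
-/
import Cfsg.Agent.Lib.Lie.Twisted.E6Inv.Table

set_option autoImplicit false
set_option maxRecDepth 100000

namespace CfsgLib.Lie.Chev.TwGroups.E6Inv

open Cfsg.Lie
open CfsgLib.Lie.Chev.Inv2
open CfsgLib.Lie.Chev.InvTree (memN memN_iff)

theorem cor_rho : ∀ r < chevE6.nroots, ∀ i < chevE6.rank,
    auxE6.cor i (rhoN r) = auxE6.cor (piE6.getD i 0) r := by decide +kernel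

variable {K : Type*} [Field K]

/-- the torus element of a root -/
def hRoot (r : Root) (v : Kˣ) : Fin chevE6.rank → Kˣ := fun i => v ^ auxE6.cor i (r : ℕ)

theorem hRoot_conj (r s : Root) (v : Kˣ) (t : K) :
    (((chevRel certE6 K).torusHom (hRoot r v) : (chevRel certE6 K).HS) : ↥(chevE6.group K)) * xR s t *
      (((chevRel certE6 K).torusHom (hRoot r v) : (chevRel certE6 K).HS) : ↥(chevE6.group K))⁻¹ =
      xR s ((v : K) ^ inn chevE6 auxE6 r s * t) := by
  refine ((chevRel certE6 K).torusHom_conj_inn _ s t).trans (congrArg (xR s) (congrArg (· * t) ?_))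
  rw [slE6.inn_comm r.2 s.2, inn_eq, Units.coe_prod,
    ← Fin.sum_univ_eq_sum_range (fun j => auxE6.coef j (r : ℕ) * chevE6.cartan j (s : ℕ))]
  simp only [hRoot, ← zpow_mul, Units.val_zpow_eq_zpow_val, slE6.cor_eq r.2 (Fin.is_lt _)]
  generalize hs : (Finset.univ : Finset (Fin chevE6.rank)) = u
  clear hs
  classical
  induction u using Finset.induction_on with
  | empty => simp
  | insert a u ha ih2 => rw [Finset.prod_insert ha, Finset.sum_insert ha, ih2, zpow_add₀ v.ne_zero]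

variable [CharP K 2] [Fintype K] {q : ℕ} (hq : IsPrimePow q) (hK : Fintype.card K = q ^ 2)

include hq hK in
/-- a tuple symmetric under the twist gives an element of the group -/
theorem tuple_mem (z : Fin chevE6.rank → Kˣ)
    (hz : ∀ i j : Fin chevE6.rank, piE6.getD (i : ℕ) 0 = (j : ℕ) → z i ^ q = z j) :
    (((chevRel certE6 K).torusHom z : (chevRel certE6 K).HS) : ↥(chevE6.group K)) ∈ (twE6 hq hK).P1 := by
  have hr : ∀ i : ℕ, i < 6 → i < chevE6.rank := fun i hi => hi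
  obtain ⟨z0, e0⟩ : ∃ u, u = z ⟨0, hr 0 (by norm_num)⟩ := ⟨_, rfl⟩
  obtain ⟨z1, e1⟩ : ∃ u, u = z ⟨1, hr 1 (by norm_num)⟩ := ⟨_, rfl⟩
  obtain ⟨z2, e2⟩ : ∃ u, u = z ⟨2, hr 2 (by norm_num)⟩ := ⟨_, rfl⟩
  obtain ⟨z3, e3⟩ : ∃ u, u = z ⟨3, hr 3 (by norm_num)⟩ := ⟨_, rfl⟩
  have f1 : z1 ^ q = z1 := by rw [e1]; exact hz _ _ rfl
  have f3 : z3 ^ q = z3 := by rw [e3]; exact hz _ _ rfl
  have f4 : z2 ^ q = z ⟨4, hr 4 (by norm_num)⟩ := by rw [e2]; exact hz _ _ rfl
  have f5 : z0 ^ q = z ⟨5, hr 5 (by norm_num)⟩ := by rw [e0]; exact hz _ _ rfl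
  have htup : z = tupE6 q z1 z3 z2 z0 := by
    funext i
    obtain ⟨i, hi⟩ := i
    have hi6 : i < 6 := hi
    interval_cases i <;> simp [tupE6, e0, e1, e2, e3, ← f4, ← f5]
  have h := (Subgroup.mem_inf.1 (psiE6_mem hq hK
    ((⟨z1, (fixUnits_iff hq.pos z1).2 f1⟩, ⟨z3, (fixUnits_iff hq.pos z3).2 f3⟩), (z2, z0)))).1
  rw [psiE6_apply, ← htup] at h
  exact h

include hq hK in
/-- one orbit is scaled to one -/
theorem scale_one {r : Root} (hr : half chevE6 ≤ (r : ℕ)) {c : K} (hc : c ≠ 0) (hf : Fx q r c) :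
    ∃ k ∈ (twE6 hq hK).P1, k * orbEl q r c * k⁻¹ = orbEl q r 1 ∧
      ∀ s : Root, inn chevE6 auxE6 r s = 0 → inn chevE6 auxE6 (rho r : ℕ) s = 0 →
        ∀ t : K, k * xR s t * k⁻¹ = xR s t := by
  obtain ⟨w, hw⟩ := FiniteField.isSquare_of_char_two (ringChar.eq K 2) c⁻¹
  have hw0 : w ≠ 0 := fun e => inv_ne_zero hc (by rw [hw, e, mul_zero])
  obtain ⟨v, hv⟩ : ∃ v : Kˣ, v = Units.mk0 w hw0 := ⟨_, rfl⟩
  have hv2 : ((v : K)) ^ (2 : ℤ) * c = 1 := by
    rw [hv, Units.val_mk0, show (2 : ℤ) = ((2 : ℕ) : ℤ) from rfl, zpow_natCast, sq, ← hw, inv_mul_cancel₀ hc]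
  have pin : ∀ i : Fin chevE6.rank, piE6.getD (i : ℕ) 0 < chevE6.rank := by decide +kernel
  have hcor : ∀ (i j : Fin chevE6.rank), piE6.getD (i : ℕ) 0 = (j : ℕ) →
      auxE6.cor i (rho r : ℕ) = auxE6.cor j r ∧ auxE6.cor j (rho r : ℕ) = auxE6.cor i r := fun i j h => by
    refine ⟨?_, ?_⟩
    · rw [← h]; exact cor_rho r r.2 i i.2
    · have h2 : piE6.getD (piE6.getD (i : ℕ) 0) 0 = (i : ℕ) := by
        have : ∀ i < 6, piE6.getD (piE6.getD i 0) 0 = i := by decide
        exact this i i.2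
      rw [h] at h2
      conv_rhs => rw [← h2]
      exact cor_rho r r.2 j j.2
  have hz : ∀ (a : Kˣ) (m : ℤ), (a ^ m) ^ q = (a ^ q) ^ m := fun a m => by
    rw [← zpow_natCast (a ^ m), ← zpow_natCast a, ← zpow_mul, ← zpow_mul, mul_comm]
  have hvq : (v ^ q) ^ q = v := Units.ext (by
    rw [Units.val_pow_eq_pow_val, Units.val_pow_eq_pow_val]; exact pow_qq hK _)
  by_cases h : rho r = r
  · have hvf : v ^ q = v := by
      apply Units.ext
      rw [Units.val_pow_eq_pow_val, hv, Units.val_mk0]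
      have hsq : (w ^ q) * (w ^ q) = w * w := by rw [← mul_pow, ← hw, inv_pow, hf h]
      rcases mul_self_eq_mul_self_iff.1 hsq with e | e
      · exact e
      · rw [e, CharTwo.neg_eq]
    refine ⟨_, tuple_mem hq hK (hRoot r v) (fun i j hij => ?_), ?_, fun s h1 _ t => ?_⟩
    · simp only [hRoot]
      rw [hz, hvf]
      have := (hcor i j hij).1
      rw [h] at this
      rw [this]
    · rw [orbEl_fix h, orbEl_fix h, hRoot_conj, slE6.inn_self r.2, hv2]
    · rw [hRoot_conj, h1, zpow_zero, one_mul]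
  · have hrr := (orth_rho r).resolve_left h
    obtain ⟨k, hk⟩ : ∃ k, k = (((chevRel certE6 K).torusHom (hRoot r v * hRoot (rho r) (v ^ q)) :
        (chevRel certE6 K).HS) : ↥(chevE6.group K)) := ⟨_, rfl⟩
    have hconj : ∀ (s : Root) (t : K), k * xR s t * k⁻¹ = xR s ((v : K) ^ inn chevE6 auxE6 r s *
        ((((v ^ q : Kˣ)) : K) ^ inn chevE6 auxE6 (rho r : ℕ) s * t)) := fun s t => by
      rw [hk, map_mul, Subgroup.coe_mul,
        show ∀ a b x : ↥(chevE6.group K), a * b * x * (a * b)⁻¹ = a * (b * x * b⁻¹) * a⁻¹ from fun a b x => by group,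
        hRoot_conj, hRoot_conj]
    refine ⟨k, hk ▸ tuple_mem hq hK _ (fun i j hij => ?_), ?_, fun s h1 h2 t => ?_⟩
    · simp only [Pi.mul_apply, hRoot]
      rw [mul_pow, hz, hz, hvq, (hcor i j hij).1, ← (hcor i j hij).2, mul_comm]
    · rw [orbEl_pair h, orbEl_pair h,
        show ∀ a b : ↥(chevE6.group K), k * (a * b) * k⁻¹ = (k * a * k⁻¹) * (k * b * k⁻¹) from fun a b => by group,
        hconj, hconj, slE6.inn_self r.2, slE6.inn_self (rho r).2, hrr,
        slE6.inn_comm (rho r).2 r.2, hrr, zpow_zero, zpow_zero, one_mul, one_mul, hv2,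
        Units.val_pow_eq_pow_val, show ((v : K) ^ q) ^ (2 : ℤ) * c ^ q = ((v : K) ^ (2 : ℤ) * c) ^ q by
          rw [mul_pow, show (2 : ℤ) = ((2 : ℕ) : ℤ) from rfl, zpow_natCast, zpow_natCast, ← pow_mul, ← pow_mul,
            mul_comm q 2],
        hv2]
    · rw [hconj, h1, h2, zpow_zero, zpow_zero, one_mul, one_mul]

/-- mutual orthogonality of the orbits in a list -/
def OrbOrth (T : List (Root × K)) : Prop :=
  T.Pairwise fun p p' => inn chevE6 auxE6 p.1 p'.1 = 0 ∧ inn chevE6 auxE6 (rho p.1 : ℕ) p'.1 = 0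

omit [CharP K 2] [Fintype K] in
theorem orth_four {r s : Root} (hr : half chevE6 ≤ (r : ℕ)) (hs : half chevE6 ≤ (s : ℕ))
    (h1 : inn chevE6 auxE6 r s = 0) (h2 : inn chevE6 auxE6 (rho r : ℕ) s = 0) :
    inn chevE6 auxE6 r (rho s : ℕ) = 0 ∧ inn chevE6 auxE6 (rho r : ℕ) (rho s : ℕ) = 0 :=
  ⟨by rw [← rho_inn hr hs]; exact h2, by rw [inn_rho hr hs]; exact h1⟩

include hq hK in
/-- all orbits are scaled to one -/
theorem scale_all : ∀ T : List (Root × K), (∀ p ∈ T, half chevE6 ≤ (p.1 : ℕ) ∧ p.2 ≠ 0 ∧ Fx q p.1 p.2) →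
    OrbOrth T → ∃ k ∈ (twE6 hq hK).P1,
      k * (T.map fun p => orbEl q p.1 p.2).prod * k⁻¹ = (T.map fun p => orbEl q p.1 (1 : K)).prod ∧
      ∀ s : Root, (∀ p ∈ T, inn chevE6 auxE6 p.1 s = 0 ∧ inn chevE6 auxE6 (rho p.1 : ℕ) s = 0) →
        ∀ t : K, k * xR s t * k⁻¹ = xR s t := by
  intro T
  induction T with
  | nil => exact fun _ _ => ⟨1, one_mem _, by simp, fun s _ t => by simp⟩
  | cons p T ih =>
    intro h0 hT
    obtain ⟨hT1, hT2⟩ := List.pairwise_cons.1 hT
    obtain ⟨hp, hpc, hpf⟩ := h0 p List.mem_cons_self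
    obtain ⟨k, hk, hk1, hk2⟩ := ih (fun x hx => h0 x (List.mem_cons_of_mem _ hx)) hT2
    obtain ⟨k', hk', hk'1, hk'2⟩ := scale_one hq hK hp hpc hpf
    have hfixp : k * orbEl q p.1 p.2 * k⁻¹ = orbEl q p.1 p.2 := by
      have e1 : ∀ t : K, k * xR p.1 t * k⁻¹ = xR p.1 t := hk2 p.1 fun x hx => by
        obtain ⟨a, b⟩ := hT1 x hx
        have hx' := (h0 x (List.mem_cons_of_mem _ hx)).1
        exact ⟨by rw [slE6.inn_comm x.1.2 p.1.2]; exact a, by
          rw [slE6.inn_comm (rho x.1).2 p.1.2]; exact (orth_four hp hx' a b).1⟩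
      by_cases h : rho p.1 = p.1
      · rw [orbEl_fix h]; exact e1 _
      · rw [orbEl_pair h,
          show ∀ a b : ↥(chevE6.group K), k * (a * b) * k⁻¹ = (k * a * k⁻¹) * (k * b * k⁻¹) from fun a b => by group,
          e1]
        refine congrArg _ (hk2 (rho p.1) (fun x hx => ?_) _)
        obtain ⟨a, b⟩ := hT1 x hx
        have hx' := (h0 x (List.mem_cons_of_mem _ hx)).1
        exact ⟨by rw [slE6.inn_comm x.1.2 (rho p.1).2]; exact b, by
          rw [slE6.inn_comm (rho x.1).2 (rho p.1).2]; exact (orth_four hp hx' a b).2⟩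
    have hfixT : k' * (T.map fun x => orbEl q x.1 (1 : K)).prod * k'⁻¹ = (T.map fun x => orbEl q x.1 (1 : K)).prod := by
      rw [← MulAut.conj_apply, map_list_prod, List.map_map]
      refine congrArg List.prod (List.map_congr_left fun x hx => ?_)
      obtain ⟨a, b⟩ := hT1 x hx
      have hx' := (h0 x (List.mem_cons_of_mem _ hx)).1
      obtain ⟨c, d⟩ := orth_four hp hx' a b
      show k' * orbEl q x.1 (1 : K) * k'⁻¹ = _
      by_cases h : rho x.1 = x.1
      · rw [orbEl_fix h]; exact hk'2 _ a b _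
      · rw [orbEl_pair h,
          show ∀ a b : ↥(chevE6.group K), k' * (a * b) * k'⁻¹ = (k' * a * k'⁻¹) * (k' * b * k'⁻¹) from fun a b => by group,
          hk'2 _ a b, hk'2 _ c d]
    refine ⟨k' * k, mul_mem hk' hk, ?_, fun s hs t => ?_⟩
    · rw [List.map_cons, List.prod_cons, List.map_cons, List.prod_cons]
      calc k' * k * (orbEl q p.1 p.2 * (T.map fun x => orbEl q x.1 x.2).prod) * (k' * k)⁻¹
          = k' * ((k * orbEl q p.1 p.2 * k⁻¹) * (k * (T.map fun x => orbEl q x.1 x.2).prod * k⁻¹)) * k'⁻¹ := by group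
        _ = (k' * orbEl q p.1 p.2 * k'⁻¹) * (k' * (T.map fun x => orbEl q x.1 (1 : K)).prod * k'⁻¹) := by
            rw [hfixp, hk1]; group
        _ = _ := by rw [hk'1, hfixT]
    · obtain ⟨a, b⟩ := hs p List.mem_cons_self
      rw [show k' * k * xR s t * (k' * k)⁻¹ = k' * (k * xR s t * k⁻¹) * k'⁻¹ by group,
        hk2 s (fun x hx => hs x (List.mem_cons_of_mem _ hx)) t, hk'2 s a b t]

/-- the roots of the orbits of a list -/
def flat (T : List (Root × K)) : List ℕ := T.flatMap fun p => orbList (p.1 : ℕ)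

omit [CharP K 2] [Fintype K] in
theorem mem_orbList {d : Root} {x : ℕ} : x ∈ orbList (d : ℕ) ↔ x = d ∨ x = (rho d : ℕ) := by
  unfold orbList
  by_cases h : rhoN d = d
  · rw [nat_beq_iff.2 h, cond_true]; simp [rho, h]
  · rw [Bool.eq_false_iff.2 fun e => h (nat_beq_iff.1 e), cond_false]; simp [rho]

omit [CharP K 2] [Fintype K] in
theorem flat_orth : ∀ T : List (Root × K), (∀ p ∈ T, half chevE6 ≤ (p.1 : ℕ)) → OrbOrth T →
    OrthL chevE6 auxE6 (flat T) ∧ sortedOf (flat T) ∈ orthSets := by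
  have hS := sets_ok
  simp only [chkSets, Bool.and_eq_true, List.all_eq_true, Bool.or_eq_true, List.any_eq_true, decide_eq_true_iff,
    List.isEmpty_iff, Bool.not_eq_true'] at hS
  intro T
  induction T with
  | nil =>
    intro _ _
    obtain ⟨S, hS1, rfl⟩ := hS.1.1
    refine ⟨⟨by simp [flat], List.Pairwise.nil⟩, ?_⟩
    simpa [flat, sortedOf, memN] using hS1
  | cons p T ih =>
    intro hpos hT
    obtain ⟨hT1, hT2⟩ := List.pairwise_cons.1 hT
    obtain ⟨⟨hlt, hpw⟩, hmem⟩ := ih (fun x hx => hpos x (List.mem_cons_of_mem _ hx)) hT2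
    have hp := hpos p List.mem_cons_self
    have hflat : flat (p :: T) = orbList (p.1 : ℕ) ++ flat T := by simp [flat]
    have horth : ∀ x ∈ orbList (p.1 : ℕ), ∀ y ∈ flat T,
        inn chevE6 auxE6 x y = 0 ∧ inn chevE6 auxE6 (rhoN x) y = 0 := by
      intro x hx y hy
      obtain ⟨z, hz, hy⟩ := List.mem_flatMap.1 hy
      obtain ⟨a, b⟩ := hT1 z hz
      obtain ⟨c, d⟩ := orth_four hp (hpos z (List.mem_cons_of_mem _ hz)) a b
      rcases mem_orbList.1 hx with rfl | rfl <;> rcases mem_orbList.1 hy with rfl | rfl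
      · exact ⟨a, b⟩
      · exact ⟨c, d⟩
      · exact ⟨b, by rw [show rhoN (rho p.1 : ℕ) = (p.1 : ℕ) from congrArg Fin.val (rho_rho p.1)]; exact a⟩
      · exact ⟨d, by rw [show rhoN (rho p.1 : ℕ) = (p.1 : ℕ) from congrArg Fin.val (rho_rho p.1)]; exact c⟩
    have hlt1 : ∀ x ∈ orbList (p.1 : ℕ), x < chevE6.nroots := fun x hx => by
      rcases mem_orbList.1 hx with rfl | rfl <;> exact Fin.is_lt _
    have hown : (orbList (p.1 : ℕ)).Pairwise (Orth chevE6 auxE6) := by
      unfold orbList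
      by_cases h : rhoN p.1 = p.1
      · rw [nat_beq_iff.2 h, cond_true]; exact List.pairwise_singleton _ _
      · rw [Bool.eq_false_iff.2 fun e => h (nat_beq_iff.1 e), cond_false]
        have h0 := (orth_rho p.1).resolve_left fun e => h (congrArg Fin.val e)
        refine List.pairwise_pair.2 ⟨h0, ?_⟩
        rw [show rhoN (p.1 : ℕ) = (rho p.1 : ℕ) from rfl, slE6.inn_comm (rho p.1).2 p.1.2]
        exact h0
    refine ⟨⟨fun r hr => ?_, ?_⟩, ?_⟩
    · rw [hflat] at hr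
      exact (List.mem_append.1 hr).elim (hlt1 r) (hlt r)
    · rw [hflat, List.pairwise_append]
      exact ⟨hown, hpw, fun x hx y hy => ⟨(horth x hx y hy).1, by
        rw [slE6.inn_comm (hlt y hy) (hlt1 x hx)]; exact (horth x hx y hy).1⟩⟩
    · obtain ⟨S', hS', e⟩ := (hS.1.2 (sortedOf (flat T)) hmem (p.1 : ℕ) (mem_pos.2 hp)).resolve_left (fun h => by
        rw [← Bool.not_eq_true, List.all_eq_true] at h
        refine h fun s hs => ?_
        simp only [sortedOf, List.mem_filter, memN_iff] at hs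
        simp only [Bool.and_eq_true, decide_eq_true_iff]
        exact horth _ (mem_orbList.2 (Or.inl rfl)) s hs.2)
      subst e
      convert hS' using 1
      refine List.filter_congr fun x hx => ?_
      rw [Bool.eq_iff_iff, memN_iff, memN_iff, hflat, List.mem_append, List.mem_cons, List.mem_cons, mem_orbList]
      simp only [sortedOf, List.mem_filter, memN_iff, hx, true_and]
      exact or_assoc

omit [Fintype K] in
theorem prod_orbs (q : ℕ) : ∀ T : List (Root × K),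
    (T.map fun p => orbEl q p.1 (1 : K)).prod = pOne (flat T)
  | [] => by simp [flat, pOne, Rel.prodOnes]
  | p :: T => by
    rw [List.map_cons, List.prod_cons, prod_orbs q T, orbEl_one]
    simp [flat, pOne, Rel.prodOnes]

omit [CharP K 2] [Fintype K] in
theorem sorted_perm {S : List ℕ} (h : OrthL chevE6 auxE6 S) (hp : ∀ r ∈ S, half chevE6 ≤ r) :
    S.Perm (sortedOf S) := by
  have hnd : S.Nodup := h.2.imp_of_mem fun {a b} ha _ hab e => by
    have := hab.1
    rw [← e, slE6.inn_self (h.1 a ha)] at this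
    norm_num at this
  refine (List.perm_ext_iff_of_nodup hnd (List.Nodup.filter _ (List.nodup_range' ..))).2 fun x => ?_
  simp only [sortedOf, List.mem_filter, memN_iff, List.mem_range'_1]
  exact ⟨fun hx => ⟨⟨hp x hx, by have := h.1 x hx; have := nroots_half; omega⟩, hx⟩, fun hx => hx.2⟩

include hq hK in
/-- a product over orthogonal orbits is conjugate to a listed one -/
theorem orbit_form_conj (T : List (Root × K)) (h0 : ∀ p ∈ T, half chevE6 ≤ (p.1 : ℕ) ∧ p.2 ≠ 0 ∧ Fx q p.1 p.2)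
    (hT : OrbOrth T) :
    ∃ S ∈ orthSets, Cj (twE6 hq hK).P1 (T.map fun p => orbEl q p.1 p.2).prod (pOne S) := by
  obtain ⟨k, hk, hk1, -⟩ := scale_all hq hK T h0 hT
  obtain ⟨ho, hm⟩ := flat_orth T (fun p hp => (h0 p hp).1) hT
  refine ⟨_, hm, k, hk, ?_⟩
  rw [hk1, prod_orbs]
  refine (chevRel certE6 K).prodOne_perm slE6 ho (sorted_perm ho fun r hr => ?_)
  obtain ⟨p, hp, hr⟩ := List.mem_flatMap.1 hr
  rcases mem_orbList.1 hr with rfl | rfl
  · exact (h0 p hp).1
  · exact rho_pos.2 (h0 p hp).1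

end CfsgLib.Lie.Chev.TwGroups.E6Inv
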