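/-
The removal of the coordinates of one orbit.
-/
import Cfsg.Agent.Lib.Lie.Twisted.E6Inv.Kill

set_option autoImplicit false

namespace CfsgLib.Lie.Chev.TwGroups.E6Inv

open Cfsg.Lie
open CfsgLib.Lie.Chev.Inv2

theorem inn_comm' (a b : Root) : inn chevE6 auxE6 a b = inn chevE6 auxE6 b a := slE6.inn_comm a.2 b.2

theorem inn_self' (a : Root) : inn chevE6 auxE6 a a = 2 := slE6.inn_self a.2

variable {L : List Root} (hLp : ∀ l ∈ L, half chevE6 ≤ (l : ℕ)) (hLr : ∀ l ∈ L, rho l ∈ L) {r k : Root} {ℓ : ℤ}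
  (hr : r ∈ oset L (lev r)) (hℓ : lev r < ℓ) (hk : k ∈ aset L r ℓ) (hkl : lev k = ℓ)

include hr hℓ hk hkl in
theorem k_ne : k ≠ r ∧ k ≠ rho r ∧ rho k ≠ r := by
  refine ⟨fun e => ?_, fun e => ?_, fun e => ?_⟩
  · rw [e] at hkl; omega
  · rw [e, lev_rho] at hkl; omega
  · have := lev_rho k; rw [e] at this; omega

variable {K : Type*} [Field K] [CharP K 2] {q : ℕ}

include hLp hLr hr hℓ hk hkl in
/-- inner product minus one: the coordinate is zero -/
theorem coord_neg (hi : inn chevE6 auxE6 r k = -1) (hb : inn chevE6 auxE6 (rho r : ℕ) k ≠ 1) {c : K} (hc : c ≠ 0)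
    {β : K} {y : ↥(chevE6.group K)} (hy : y ∈ UR K (aset L r (ℓ + 1)))
    (h2 : orbEl q r c * (orbEl q k β * y) * (orbEl q r c * (orbEl q k β * y)) = 1) : β = 0 := by
  have hr' := oset_rho hLp hLr hr
  have hk' : rho k ∈ aset L r ℓ := aset_rho hLp hLr hr.1 hk
  have hk'' : lev (rho k) = ℓ := by rw [lev_rho]; exact hkl
  obtain ⟨j, hjp, hjs, hjl, hji⟩ : ∃ j : Root, half chevE6 ≤ (j : ℕ) ∧ sumR r k = j ∧ lev j = lev r + lev k ∧
      ∀ l : ℕ, inn chevE6 auxE6 l j = inn chevE6 auxE6 l r + inn chevE6 auxE6 l k := by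
    obtain ⟨u, a, b, c, d, -⟩ := exists_sum hr.1 hk.1.1 hi
    exact ⟨u, a, b, c, d⟩
  rw [hkl] at hjl
  have hrj : inn chevE6 auxE6 r j = 1 := by rw [hji, inn_self', hi]; norm_num
  have hZ : ¬ Zr r j := fun h => by rw [h.1] at hrj; norm_num at hrj
  have hjA : j ∈ aset L r ℓ := by
    have := (lev_bound hr.1).1
    exact aset_anti (by omega) (sum_up (ℓ := ℓ) hr hr' (Or.inl rfl) hk hi hjp (by rw [hjl, hkl]) hji)
  have hA := aset_closed L r ℓ
  have hAj := aset_diff_closed (L := L) hZ hjl.le hℓ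
  have upA : ∀ {p s u : Root}, (p = r ∨ p = rho r) → s ∈ aset L r ℓ → inn chevE6 auxE6 p s = -1 →
      half chevE6 ≤ (u : ℕ) → lev u = lev p + lev s →
      (∀ l : ℕ, inn chevE6 auxE6 l u = inn chevE6 auxE6 l p + inn chevE6 auxE6 l s) → u ∈ aset L r ℓ :=
    fun hp hs hi hu e2 e3 => by
      have := (lev_bound hr.1).1
      exact aset_anti (by omega) (sum_up hr hr' hp hs hi hu e2 e3)
  have missk : ∀ a t : K, rho r ≠ r → Cd (aset L r ℓ) j (br (xR (rho r) a) (xR k t)) 0 := fun a t h => by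
    refine br_miss hr'.1 hk.1.1 (fun hi' u _ hu e2 e3 => ⟨upA (Or.inr rfl) hk hi' hu e2 e3, fun e => ?_⟩) a t
    have e' : u = j := e
    subst e'
    have e4 := e3 (r : ℕ)
    rw [hrj, (orth_rho r).resolve_left h, hi] at e4
    norm_num at e4
  have h1 : ∀ t : K, Cd (aset L r ℓ) j (br (orbEl q r c) (xR k t)) (c * t + 0) := fun t =>
    cd_x_gen (q := q) hr hr' hℓ hZ hjl.le hjA hk c t (br_hit hr.1 hk.1.1 hi hjs c t) (missk _ _) fun _ => rfl
  have hb' : Cd (aset L r ℓ) j (br (orbEl q r c) (orbEl q k β)) (c * β) := by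
    by_cases hkk : rho k = k
    · rw [orbEl_fix hkk]; simpa using h1 β
    · rw [orbEl_pair hkk]
      have hkk' := (orth_rho k).resolve_left hkk
      have h3 : Cd (aset L r ℓ) j (br (orbEl q r c) (xR (rho k) (β ^ q))) (0 + 0) := by
        refine cd_x_gen (q := q) hr hr' hℓ hZ hjl.le hjA hk' c _
          (br_miss hr.1 hk'.1.1 (fun hi' u _ hu e2 e3 => ⟨upA (Or.inl rfl) hk' hi' hu e2 e3, fun e => ?_⟩) _ _)
          (fun h => br_miss hr'.1 hk'.1.1 (fun hi' u _ hu e2 e3 => ⟨upA (Or.inr rfl) hk' hi' hu e2 e3, fun e => ?_⟩) _ _)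
          fun _ => rfl
        · have e' : u = j := e
          subst e'
          have e4 := e3 (k : ℕ)
          rw [hji, inn_comm' k r, hi, inn_self', hkk'] at e4
          norm_num at e4
        · have e' : u = j := e
          subst e'
          have e4 := e3 (r : ℕ)
          rw [hrj, (orth_rho r).resolve_left h, ← rho_inn hr.1 hk.1.1, zero_add] at e4
          exact hb e4.symm
      rw [add_zero] at h3
      have h4 := cd_br_right hA hAj hjA (h1 β)
        (cd_conj_mem hA hAj hjA ((chevRel certE6 K).xe_mem_US hk β) h3)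
      simpa using h4
  exact (mul_eq_zero.1 (rel_zero (q := q) hr hr' hℓ hZ hjl hjA c (orbEl_mem hk hk' β) hy h2 hb')).resolve_left hc

include hLp hLr hr hℓ hk hkl in
/-- inner products one and minus one: the coordinate is a fixed multiple of the leading one -/
theorem coord_mixed (hp : rho r ≠ r) (hi : inn chevE6 auxE6 r k = 1) (hb : inn chevE6 auxE6 (rho r : ℕ) k = -1)
    {c : K} {β : K} {y : ↥(chevE6.group K)} (hy : y ∈ UR K (aset L r (ℓ + 1)))
    (h2 : orbEl q r c * (orbEl q k β * y) * (orbEl q r c * (orbEl q k β * y)) = 1) :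
    rho k ≠ k ∧ c ^ q * β + c * β ^ q = 0 := by
  have hr' := oset_rho hLp hLr hr
  have hk' : rho k ∈ aset L r ℓ := aset_rho hLp hLr hr.1 hk
  have hbk : inn chevE6 auxE6 r (rho k : ℕ) = -1 := by rw [← rho_inn hr.1 hk.1.1]; exact hb
  have hkk : rho k ≠ k := fun e => by rw [e, hi] at hbk; norm_num at hbk
  refine ⟨hkk, ?_⟩
  obtain ⟨j, hjp, hjs, hjl, hji⟩ : ∃ j : Root, half chevE6 ≤ (j : ℕ) ∧ sumR (rho r : ℕ) k = j ∧
      lev j = lev (rho r) + lev k ∧
      ∀ l : ℕ, inn chevE6 auxE6 l j = inn chevE6 auxE6 l (rho r : ℕ) + inn chevE6 auxE6 l k := by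
    obtain ⟨u, a, b, c, d, -⟩ := exists_sum hr'.1 hk.1.1 hb
    exact ⟨u, a, b, c, d⟩
  have hrr := (orth_rho r).resolve_left hp
  have hkk' := (orth_rho k).resolve_left hkk
  have hrj : inn chevE6 auxE6 r j = 1 := by rw [hji, hrr, hi]; norm_num
  have hZ : ¬ Zr r j := fun h => by rw [h.1] at hrj; norm_num at hrj
  have hjA : j ∈ aset L r ℓ := by
    have := (lev_bound hr.1).1
    exact aset_anti (by omega) (sum_up (ℓ := ℓ) hr hr' (Or.inr rfl) hk hb hjp hjl hji)
  rw [lev_rho, hkl] at hjl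
  have hA := aset_closed L r ℓ
  have hAj := aset_diff_closed (L := L) hZ hjl.le hℓ
  have hsum : sumR r (rho k : ℕ) = j := by
    have e := ((spec2 hr'.1 hk.1.1).2.2.1 hb).2
    rw [rho_rho, hjs] at e
    obtain ⟨u, hu, e1, e2, e3, -⟩ := exists_sum hr.1 hk'.1.1 hbk
    have hu' : u = rho j := Fin.ext (e1.symm.trans e)
    rcases orth_rho j with h | h
    · rw [e1, hu', h]
    · exfalso
      rw [← hu', e3, inn_comm' j r, hrj, inn_comm' j (rho k), hji, inn_comm' (rho k) (rho r), inn_rho hr.1 hk.1.1, hi, inn_comm' (rho k) k,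
        hkk'] at h
      norm_num at h
  have hk1 : inn chevE6 auxE6 (rho r : ℕ) (rho k : ℕ) ≠ -1 := by rw [inn_rho hr.1 hk.1.1, hi]; norm_num
  have h1 : Cd (aset L r ℓ) j (br (orbEl q r c) (xR k β)) (0 + c ^ q * β) :=
    cd_x_gen (q := q) hr hr' hℓ hZ hjl.le hjA hk c β
      (br_miss hr.1 hk.1.1 (fun hi' => absurd hi' (by rw [hi]; norm_num)) _ _)
      (fun _ => br_hit hr'.1 hk.1.1 hb hjs _ _) fun h => absurd h hp
  have h3 : Cd (aset L r ℓ) j (br (orbEl q r c) (xR (rho k) (β ^ q))) (c * β ^ q + 0) :=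
    cd_x_gen (q := q) hr hr' hℓ hZ hjl.le hjA hk' c _ (br_hit hr.1 hk'.1.1 hbk hsum _ _)
      (fun _ => br_miss hr'.1 hk'.1.1 (fun hi' => absurd hi' hk1) _ _) fun _ => rfl
  rw [zero_add] at h1
  rw [add_zero] at h3
  have h4 := cd_br_right hA hAj hjA h1 (cd_conj_mem hA hAj hjA ((chevRel certE6 K).xe_mem_US hk β) h3)
  rw [← orbEl_pair hkk] at h4
  exact rel_zero (q := q) hr hr' hℓ hZ hjl hjA c (orbEl_mem hk hk' β) hy h2 h4

variable [Fintype K] (hq : IsPrimePow q) (hK : Fintype.card K = q ^ 2)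

include hq hK in
theorem exists_trace_one : ∃ u : K, u + u ^ q = 1 := by
  obtain ⟨a, ha⟩ : ∃ a : K, a ^ q ≠ a := by
    by_contra h
    simp only [ne_eq, not_exists, not_not] at h
    have e := card_fixed (K := K) hq.one_lt two_pos hK
    rw [Nat.card_congr (Equiv.subtypeUnivEquiv h), Nat.card_eq_fintype_card, hK] at e
    have := hq.one_lt
    nlinarith [sq q]
  have hadd : ∀ x z : K, (x + z) ^ q = x ^ q + z ^ q := fun x z => by
    simp only [← frE6_apply hq hK, map_add]
  have e0 : a + a ^ q ≠ 0 := fun h => ha (by rw [← CharTwo.sub_eq_add, sub_eq_zero] at h; exact h.symm)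
  refine ⟨a / (a + a ^ q), ?_⟩
  rw [div_pow, hadd, pow_qq hK, add_comm (a ^ q) a, ← add_div, div_self e0]

include hLp hLr hr hℓ hk hkl hq hK in
/-- inner product one: the coordinate is removed by conjugation -/
theorem coord_pos (hi : inn chevE6 auxE6 r k = 1) {c : K} (hc : c ≠ 0) (hf : Fx q r c) {β : K} (hβ : Fx q k β)
    (hrel : rho r ≠ r → inn chevE6 auxE6 (rho r : ℕ) k = -1 → c ^ q * β + c * β ^ q = 0)
    {v : ↥(chevE6.group K)} (hv : Cd (aset L r ℓ) k v β) (hσ : σE6 hq hK v = v) :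
    ∃ g ∈ UR K (oset L 1), σE6 hq hK g = g ∧ ∃ v' : ↥(chevE6.group K), Cd (aset L r ℓ) k v' 0 ∧
      σE6 hq hK v' = v' ∧ g * (orbEl q r c * v) * g⁻¹ = orbEl q r c * v' := by
  have hr' := oset_rho hLp hLr hr
  have hk' : rho k ∈ aset L r ℓ := aset_rho hLp hLr hr.1 hk
  have hr'k : lev r < lev k := by omega
  obtain ⟨d, hdp, hdd, hrd, hds, hde, hdf⟩ := (spec2 hr.1 hk.1.1).2.2.2 hi hr'k
  obtain ⟨hdl, hda⟩ : lev k = lev r + lev d ∧
      ∀ l : ℕ, inn chevE6 auxE6 l k = inn chevE6 auxE6 l r + inn chevE6 auxE6 l d := by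
    obtain ⟨u, -, e1, e2, e3, -⟩ := exists_sum hr.1 hdp hrd
    have : u = k := Fin.ext (e1.symm.trans hds)
    exact ⟨this ▸ e2, this ▸ e3⟩
  have hdo : d ∈ oset L 1 := ⟨hdp, (lev_bound hdp).1, fun l hl => by
    have := hda l; rw [hk.1.2.2 l hl, hr.2.2 l hl, zero_add] at this; exact this.symm⟩
  have hdo' := oset_rho hLp hLr hdo
  have hr'd : inn chevE6 auxE6 (rho r : ℕ) (rho d : ℕ) = -1 := by rw [inn_rho hr.1 hdp]; exact hrd
  have hsum' : sumR (rho r : ℕ) (rho d : ℕ) = (rho k : ℕ) := by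
    rw [((spec2 hr.1 hdp).2.2.1 hrd).2, hds]; rfl
  have hA := aset_closed L r ℓ
  have hZ : ¬ Zr r k := fun h => by rw [h.1] at hi; norm_num at hi
  have hAk := aset_diff_closed (L := L) hZ (by rw [hkl]; have := (lev_bound hr.1).1; omega) hℓ
  have pres : ∀ p : Root, p ∈ oset L 1 →
      (∀ s ∈ aset L r ℓ, inn chevE6 auxE6 p s = -1 → ℓ < lev p + lev s) →
      ∀ (t : K) (w : ↥(chevE6.group K)) (b : K), Cd (aset L r ℓ) k w b →
        Cd (aset L r ℓ) k (xR p t * w * (xR p t)⁻¹) b := by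
    intro p hp hlt t w b hw
    refine cd_conj hA hAk hk hp.1 (subset_refl _) (fun s hs hi' u _ hu e2 e3 => ?_) t (cd_mem hk hw) hw
    have := hs.1.2.1; have := hp.2.1; have := hlt s hs hi'
    refine ⟨⟨⟨hu, by omega, fun l hl => by rw [e3, hp.2.2 l hl, hs.1.2.2 l hl, add_zero]⟩, Or.inr (by omega)⟩,
      fun e => ?_⟩
    have e' : u = k := e
    rw [e'] at e2
    omega
  have presd : ∀ e : Root, e = d ∨ e = rho d → ∀ (t : K) (w : ↥(chevE6.group K)) (b : K),
      Cd (aset L r ℓ) k w b → Cd (aset L r ℓ) k (xR e t * w * (xR e t)⁻¹) b := by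
    intro e he
    have hl : lev e = lev d := by rcases he with rfl | rfl <;> simp [lev_rho]
    refine pres e (by rcases he with rfl | rfl <;> assumption) fun s hs _ => ?_
    have := hs.1.2.1
    omega
  have presr : ∀ (t : K) (w : ↥(chevE6.group K)) (b : K),
      Cd (aset L r ℓ) k w b → Cd (aset L r ℓ) k (xR r t * w * (xR r t)⁻¹) b :=
    pres r ⟨hr.1, (lev_bound hr.1).1, hr.2.2⟩ fun s hs hi' => by
      have := ge_of_inn hr hr' (Or.inl rfl) hs hi'; have := (lev_bound hr.1).1; omega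
  have hitd : ∀ a t : K, Cd (aset L r ℓ) k (br (xR r a) (xR d t)) (a * t) := fun a t => br_hit hr.1 hdp hrd hds a t
  have upk : ∀ {p e u : Root}, (p = r ∨ p = rho r) → (e = d ∨ e = rho d) → half chevE6 ≤ (u : ℕ) →
      lev u = lev p + lev e → (∀ l : ℕ, inn chevE6 auxE6 l u = inn chevE6 auxE6 l p + inn chevE6 auxE6 l e) →
      u ∈ aset L r ℓ := by
    intro p e u hp he hu e2 e3
    obtain ⟨hl, ho⟩ := lev_pm hr hr' hp
    have hl' : lev e = lev d := by rcases he with rfl | rfl <;> simp [lev_rho]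
    have heo : e ∈ oset L 1 := by rcases he with rfl | rfl <;> assumption
    exact ⟨⟨hu, by omega, fun l hl => by rw [e3, ho.2.2 l hl, heo.2.2 l hl, add_zero]⟩, Or.inr (by omega)⟩
  have key : ∃ s : K, Fx q d s ∧ Cd (aset L r ℓ) k (br (orbEl q r c) (orbEl q d s)) β := by
    by_cases hpair : rho r = r
    · by_cases hdfix : rho d = d
      · have hkf : rho k = k := by
          have e := hsum'
          rw [hpair, hdfix, hds] at e
          exact Fin.ext e.symm
        refine ⟨β / c, fun _ => by rw [div_pow, hβ hkf, hf hpair], ?_⟩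
        rw [orbEl_fix hpair, orbEl_fix hdfix]
        simpa [mul_div_cancel₀ β hc] using hitd c (β / c)
      · have hkf : rho k ≠ k := fun e => hdfix (by
          have h := hde
          rw [hpair, e, hdd] at h
          exact Fin.ext h.symm)
        refine ⟨β / c, fun h => absurd h hdfix, ?_⟩
        rw [orbEl_fix hpair, orbEl_pair hdfix]
        have h1 := hitd c (β / c)
        have h2 : Cd (aset L r ℓ) k (br (xR r c) (xR (rho d) ((β / c) ^ q))) 0 :=
          br_miss hr.1 (rho_pos.2 hdp) (fun _ u hu' hu e2 e3 => ⟨upk (Or.inl rfl) (Or.inr rfl) hu e2 e3, fun e => by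
            have e' : u = k := e
            have h := hsum'
            rw [hpair, hu', e'] at h
            exact hkf (Fin.ext h.symm)⟩) _ _
        have := cd_br_right hA hAk hk h1 (presd d (Or.inl rfl) _ _ _ h2)
        simpa [mul_div_cancel₀ β hc] using this
    · have hrr := (orth_rho r).resolve_left hpair
      have hbd : inn chevE6 auxE6 (rho r : ℕ) d = inn chevE6 auxE6 (rho r : ℕ) k := by
        have := hda (rho r : ℕ)
        rw [inn_comm' (rho r) r, hrr, zero_add] at this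
        exact this.symm
      by_cases hdfix : rho d = d
      · have hbm : inn chevE6 auxE6 (rho r : ℕ) k = -1 := by
          rw [← hbd]; rw [hdfix] at hr'd; exact hr'd
        have hkf : rho k ≠ k := fun e => by
          rw [rho_inn hr.1 hk.1.1, e, hi] at hbm; norm_num at hbm
        have hs : (β / c) ^ q = β / c := by
          have h := hrel hpair hbm
          rw [← CharTwo.sub_eq_add, sub_eq_zero] at h
          rw [div_pow, div_eq_div_iff (pow_ne_zero _ hc) hc, mul_comm (β ^ q) c, mul_comm β (c ^ q), h]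
        refine ⟨β / c, fun _ => hs, ?_⟩
        rw [orbEl_pair hpair, orbEl_fix hdfix]
        have h2 : Cd (aset L r ℓ) k (br (xR (rho r) (c ^ q)) (xR d (β / c))) 0 :=
          br_miss hr'.1 hdp (fun _ u hu' hu e2 e3 => ⟨upk (Or.inr rfl) (Or.inl rfl) hu e2 e3, fun e => by
            have e' : u = k := e
            have h := hsum'
            rw [hdfix, hu', e'] at h
            exact hkf (Fin.ext h.symm)⟩) _ _
        have := cd_br_left hA hAk hk (hitd c (β / c)) (presr _ _ _ h2)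
        simpa [mul_div_cancel₀ β hc] using this
      · have hbn : inn chevE6 auxE6 (rho r : ℕ) k ≠ -1 := fun e => hdfix ((hdf.resolve_left hpair).resolve_left
          fun h => h e)
        have hbn' : inn chevE6 auxE6 r (rho d : ℕ) ≠ -1 := by rw [← rho_inn hr.1 hdp, hbd]; exact hbn
        have hbn'' : inn chevE6 auxE6 (rho r : ℕ) d ≠ -1 := by rw [hbd]; exact hbn
        obtain ⟨s, hs⟩ : ∃ s : K, c * s + (if rho k = k then c ^ q * s ^ q else 0) = β := by
          by_cases hkf : rho k = k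
          · obtain ⟨u, hu⟩ := exists_trace_one hq hK
            refine ⟨u * β / c, ?_⟩
            rw [if_pos hkf, mul_div_cancel₀ _ hc, div_pow, mul_div_cancel₀ _ (pow_ne_zero _ hc), mul_pow, hβ hkf,
              ← add_mul, hu, one_mul]
          · exact ⟨β / c, by rw [if_neg hkf, add_zero, mul_div_cancel₀ _ hc]⟩
        refine ⟨s, fun h => absurd h hdfix, ?_⟩
        rw [orbEl_pair hpair, orbEl_pair hdfix]
        have h11 := hitd c s
        have h12 : Cd (aset L r ℓ) k (br (xR r c) (xR (rho d) (s ^ q))) 0 :=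
          br_miss hr.1 (rho_pos.2 hdp) (fun h => absurd h hbn') _ _
        have h21 : Cd (aset L r ℓ) k (br (xR (rho r) (c ^ q)) (xR d s)) 0 :=
          br_miss hr'.1 hdp (fun h => absurd h hbn'') _ _
        have h22 : Cd (aset L r ℓ) k (br (xR (rho r) (c ^ q)) (xR (rho d) (s ^ q)))
            (if rho k = k then c ^ q * s ^ q else 0) := by
          split_ifs with hkf
          · exact br_hit hr'.1 (rho_pos.2 hdp) hr'd (by rw [hsum', hkf]) _ _
          · exact br_miss hr'.1 (rho_pos.2 hdp) (fun _ u hu' hu e2 e3 => ⟨upk (Or.inr rfl) (Or.inr rfl) hu e2 e3,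
              fun e => by
                have e' : u = k := e
                have h := hsum'
                rw [hu', e'] at h
                exact hkf (Fin.ext h.symm)⟩) _ _
        have h1 := cd_br_right hA hAk hk h11 (presd d (Or.inl rfl) _ _ _ h12)
        have h2 := cd_br_right hA hAk hk h21 (presd d (Or.inl rfl) _ _ _ h22)
        have := cd_br_left hA hAk hk h1 (presr _ _ _ h2)
        rw [add_zero, zero_add, add_comm, hs] at this
        exact this
  obtain ⟨s, hsf, hs⟩ := key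
  obtain ⟨g, hg⟩ : ∃ g, g = orbEl q d s := ⟨_, rfl⟩
  rw [← hg] at hs
  have hgσ : σE6 hq hK g = g := hg ▸ orbEl_fixed hq hK hdp hsf
  have hgv : Cd (aset L r ℓ) k (g * v * g⁻¹) β := by
    rw [hg]
    by_cases h : rho d = d
    · rw [orbEl_fix h]; exact presd d (Or.inl rfl) _ _ _ hv
    · rw [orbEl_pair h, show ∀ a b : ↥(chevE6.group K), a * b * v * (a * b)⁻¹ = a * (b * v * b⁻¹) * a⁻¹ from
        fun a b => by group]
      exact presd d (Or.inl rfl) _ _ _ (presd (rho d) (Or.inr rfl) _ _ _ hv)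
  have h0 := cd_mul hA hAk hk hs hgv
  rw [CharTwo.add_self_eq_zero] at h0
  refine ⟨g, hg ▸ orbEl_mem hdo hdo' s, hgσ, br (orbEl q r c) g * (g * v * g⁻¹), h0, ?_, ?_⟩
  · simp only [br, map_mul, map_inv, orbEl_fixed hq hK hr.1 hf, hgσ, hσ]
  · simp only [br]
    rw [orbEl_inv hr.1]
    calc g * (orbEl q r c * v) * g⁻¹ = (orbEl q r c * orbEl q r c) * (g * (orbEl q r c * v) * g⁻¹) := by
          rw [orbEl_self hr.1, one_mul]
      _ = _ := by group

end CfsgLib.Lie.Chev.TwGroups.E6Inv
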