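/-
Reduction of the involutions of the fixed unipotent group to products over orthogonal orbits.
-/
import Cfsg.Agent.Lib.Lie.Twisted.E6Inv.Step

set_option autoImplicit false

namespace CfsgLib.Lie.Chev.TwGroups.E6Inv

open Cfsg.Lie
open CfsgLib.Lie.Chev.Inv2

variable {K : Type*} [Field K] [CharP K 2] [Fintype K] {q : ℕ} (hq : IsPrimePow q) (hK : Fintype.card K = q ^ 2)
  {L : List Root} (hLp : ∀ l ∈ L, half chevE6 ≤ (l : ℕ)) (hLr : ∀ l ∈ L, rho l ∈ L) {r : Root}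
  (hr : r ∈ oset L (lev r))

include hLp hLr hr hq hK in
/-- one height -/
theorem kill_level {ℓ : ℤ} (hℓ : lev r < ℓ) {c : K} (hc : c ≠ 0) (hf : Fx q r c) {v : ↥(chevE6.group K)}
    (hv : v ∈ UR K (aset L r ℓ)) (hσ : σE6 hq hK v = v)
    (h2 : orbEl q r c * v * (orbEl q r c * v) = 1) :
    ∃ g ∈ UR K (oset L 1), σE6 hq hK g = g ∧ ∃ v' ∈ UR K (aset L r (ℓ + 1)), σE6 hq hK v' = v' ∧
      g * (orbEl q r c * v) * g⁻¹ = orbEl q r c * v' := by
  by_cases hex : ∃ k, k ∈ aset L r ℓ ∧ lev k = ℓ ∧ ¬ Zr r k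
  swap
  · refine ⟨1, one_mem _, map_one _, v, ?_, hσ, by group⟩
    refine (chevRel certE6 K).US_mono (S := aset L r ℓ) (T := aset L r (ℓ + 1)) (fun s hs => ⟨hs.1, ?_⟩) hv
    refine hs.2.elim Or.inl fun h => ?_
    by_cases hz : Zr r s
    · exact Or.inl hz
    · exact Or.inr (by
        rcases h.lt_or_eq with h' | h'
        · omega
        · exact absurd ⟨s, hs, h'.symm, hz⟩ hex)
  obtain ⟨k0, hk0, hl0, hz0⟩ := hex
  obtain ⟨k, hk, hkl, hzk, hor⟩ : ∃ k, k ∈ aset L r ℓ ∧ lev k = ℓ ∧ ¬ Zr r k ∧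
      (inn chevE6 auxE6 r k = 1 ∨ (inn chevE6 auxE6 r k = -1 ∧ inn chevE6 auxE6 (rho r : ℕ) k ≠ 1)) := by
    have hk1 : rho k0 ∈ aset L r ℓ := aset_rho hLp hLr hr.1 hk0
    have hl1 : lev (rho k0) = ℓ := by rw [lev_rho]; exact hl0
    have hz1 : ¬ Zr r (rho k0) := fun h => hz0 (by
      have := Zr_rho hr.1 hk1.1.1 h; rwa [rho_rho] at this)
    have ea : inn chevE6 auxE6 r (rho k0 : ℕ) = inn chevE6 auxE6 (rho r : ℕ) k0 := (rho_inn hr.1 hk0.1.1).symm
    have eb : inn chevE6 auxE6 (rho r : ℕ) (rho k0 : ℕ) = inn chevE6 auxE6 r k0 := inn_rho hr.1 hk0.1.1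
    obtain ⟨n1, n2, -⟩ := k_ne hr hℓ hk0 hl0
    have c1 := slE6.inn_pos_cases r.2 hr.1 k0.2 hk0.1.1 (fun e => n1 (Fin.ext e.symm))
    have c2 := slE6.inn_pos_cases (rho r).2 (rho_pos.2 hr.1) k0.2 hk0.1.1 (fun e => n2 (Fin.ext e.symm))
    rcases c1 with h1 | h1 | h1
    · rcases c2 with h2 | h2 | h2
      · exact absurd ⟨h1, h2⟩ hz0
      · exact ⟨rho k0, hk1, hl1, hz1, Or.inr ⟨ea.trans h2, by rw [eb, h1]; norm_num⟩⟩
      · exact ⟨rho k0, hk1, hl1, hz1, Or.inl (ea.trans h2)⟩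
    · rcases c2 with h2 | h2 | h2
      · exact ⟨k0, hk0, hl0, hz0, Or.inr ⟨h1, by rw [h2]; norm_num⟩⟩
      · exact ⟨k0, hk0, hl0, hz0, Or.inr ⟨h1, by rw [h2]; norm_num⟩⟩
      · exact ⟨rho k0, hk1, hl1, hz1, Or.inl (ea.trans h2)⟩
    · exact ⟨k0, hk0, hl0, hz0, Or.inl h1⟩
  have hA := aset_closed L r ℓ
  have hk' := aset_rho hLp hLr hr.1 hk
  have hAr : ∀ s ∈ aset L r ℓ, rho s ∈ aset L r ℓ := fun s hs => aset_rho hLp hLr hr.1 hs
  have hzk' : ¬ Zr r (rho k) := fun h => hzk (by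
    have := Zr_rho hr.1 hk'.1.1 h; rwa [rho_rho] at this)
  have hlr : lev k ≤ lev r + ℓ := by rw [hkl]; have := (lev_bound hr.1).1; omega
  have hlr' : lev (rho k) ≤ lev r + ℓ := by rw [lev_rho]; exact hlr
  have hsub : aset L r ℓ \ {k, rho k} ⊆ aset L r (ℓ + 1) := by
    rintro s ⟨hs, hne⟩
    refine ⟨hs.1, hs.2.elim Or.inl fun h => ?_⟩
    rcases h.lt_or_eq with h' | h'
    · exact Or.inr (by omega)
    · refine absurd ?_ hne
      rcases eq_of_lev hk.1.1 hs.1.1 (hkl.trans h') with e | e <;> simp [e]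
  obtain ⟨β, hβc, hβf, y, hy, hyσ, e⟩ := split_orbit hq hK hA hAr hk (aset_diff_closed hzk hlr hℓ)
    (aset_diff_closed hzk' hlr' hℓ) hv hσ
  have hy' : y ∈ UR K (aset L r (ℓ + 1)) := (chevRel certE6 K).US_mono hsub hy
  have zero_case : ∀ w : ↥(chevE6.group K), w ∈ UR K (aset L r ℓ) → σE6 hq hK w = w →
      Cd (aset L r ℓ) k w (0 : K) → w ∈ UR K (aset L r (ℓ + 1)) := by
    intro w hw hwσ hw0
    obtain ⟨b, hb, -, z, hz, -, ew⟩ := split_orbit hq hK hA hAr hk (aset_diff_closed hzk hlr hℓ)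
      (aset_diff_closed hzk' hlr' hℓ) hw hwσ
    have hb0 : b = 0 := cd_unique hA (aset_diff_closed hzk hlr hℓ) hk hb hw0
    rw [ew, hb0]
    refine mul_mem ?_ ((chevRel certE6 K).US_mono hsub hz)
    unfold orbEl
    rw [zero_pow hq.pos.ne']
    split_ifs <;> simp [xR, (chevRel certE6 K).xe_zero]
  rcases hor with hi | ⟨hi, hb⟩
  · have hrel : rho r ≠ r → inn chevE6 auxE6 (rho r : ℕ) k = -1 → c ^ q * β + c * β ^ q = 0 := fun hp hb =>
      (coord_mixed hLp hLr hr hℓ hk hkl hp hi hb hy' (by rw [← e]; exact h2)).2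
    obtain ⟨g, hg, hgσ, v', hv', hv'σ, e'⟩ :=
      coord_pos hLp hLr hr hℓ hk hkl hq hK hi hc hf hβf hrel hβc hσ
    exact ⟨g, hg, hgσ, v', zero_case v' (cd_mem hk hv') hv'σ hv', hv'σ, e'⟩
  · have hβ : β = 0 := coord_neg hLp hLr hr hℓ hk hkl hi hb hc hy' (by rw [← e]; exact h2)
    exact ⟨1, one_mem _, map_one _, v, zero_case v hv hσ (hβ ▸ hβc), hσ, by group⟩

omit hLp hLr hr

include hq hK in
/-- reduction to orthogonal orbits -/
theorem exists_orbit_form : ∀ (n : ℕ) (m : ℤ) (L : List Root) (a : ↥(chevE6.group K)), 36 ≤ m + n → 1 ≤ m →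
    (∀ l ∈ L, half chevE6 ≤ (l : ℕ)) → (∀ l ∈ L, rho l ∈ L) →
    a ∈ UR K (oset L m) → σE6 hq hK a = a → a * a = 1 →
    ∃ h ∈ UR K (oset L 1), σE6 hq hK h = h ∧ ∃ T : List (Root × K),
      (∀ p ∈ T, p.1 ∈ oset L m ∧ p.2 ≠ 0 ∧ Fx q p.1 p.2) ∧
      T.Pairwise (fun p p' => inn chevE6 auxE6 p.1 p'.1 = 0 ∧ inn chevE6 auxE6 (rho p.1 : ℕ) p'.1 = 0) ∧
      h * a * h⁻¹ = (T.map fun p => orbEl q p.1 p.2).prod := by
  intro n
  induction n with
  | zero =>
    intro m L a hn hm _ _ ha _ _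
    refine ⟨1, one_mem _, map_one _, [], by simp, List.Pairwise.nil, ?_⟩
    have h0 : oset L m ⊆ (∅ : Set Root) := fun s hs => by
      have := (lev_bound hs.1).2; have := hs.2.1; omega
    have h1 : a ∈ UR K (∅ : Set Root) := (chevRel certE6 K).US_mono h0 ha
    have h2 : UR K (∅ : Set Root) = ⊥ := le_bot_iff.1 ((chevRel certE6 K).US_le fun r hr => absurd hr (Set.notMem_empty r))
    rw [h2, Subgroup.mem_bot] at h1
    simp [h1]
  | succ n ih =>
    intro m L a hn hm hLp hLr ha hσ h2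
    by_cases hex : ∃ r, r ∈ oset L m ∧ lev r = m
    swap
    · have ha' : a ∈ UR K (oset L (m + 1)) := (chevRel certE6 K).US_mono (S := oset L m) (T := oset L (m + 1)) (fun s hs => ⟨hs.1, by
          rcases hs.2.1.lt_or_eq with h | h
          · omega
          · exact absurd ⟨s, hs, h.symm⟩ hex, hs.2.2⟩) ha
      obtain ⟨h, hh, hhσ, T, h1, h3, e⟩ := ih (m + 1) L a (by omega) (by omega) hLp hLr ha' hσ h2
      exact ⟨h, hh, hhσ, T, fun p hp => ⟨⟨(h1 p hp).1.1, by have := (h1 p hp).1.2.1; omega, (h1 p hp).1.2.2⟩,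
        (h1 p hp).2⟩, h3, e⟩
    obtain ⟨r, hrm, hlr⟩ := hex
    have hr : r ∈ oset L (lev r) := by rw [hlr]; exact hrm
    have hA := oset_closed L m
    have hcl : ∀ k : Root, lev k = m → PosClosed chevE6 (oset L m \ {k}) := fun k hk =>
      closed_of_lev (fun _ h => h.1.1) fun a ha b hb u hu e1 e2 => ⟨⟨hu, by
        have := ha.1.2.1; have := (lev_bound hb.1.1).1; omega,
        fun l hl => by rw [e2, ha.1.2.2 l hl, hb.1.2.2 l hl, add_zero]⟩, fun e => by
          have e' : u = k := e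
          subst e'
          have := ha.1.2.1; have := (lev_bound hb.1.1).1; omega⟩
    obtain ⟨c, -, hcf, y, hy, hyσ, ea⟩ := split_orbit hq hK hA (fun s hs => oset_rho hLp hLr hs) hrm (hcl r hlr)
      (hcl (rho r) (by rw [lev_rho]; exact hlr)) ha hσ
    have hy' : y ∈ UR K (oset L (m + 1)) := (chevRel certE6 K).US_mono (S := oset L m \ {r, rho r}) (T := oset L (m + 1)) (fun s hs => ⟨hs.1.1, by
        rcases hs.1.2.1.lt_or_eq with h | h
        · omega
        · refine absurd ?_ hs.2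
          rcases eq_of_lev hr.1 hs.1.1 (hlr.trans h) with e | e <;> simp [e], hs.1.2.2⟩) hy
    by_cases hc : c = 0
    · have e0 : a = y := by
        rw [ea, hc]; unfold orbEl; rw [zero_pow hq.pos.ne']
        split_ifs <;> simp [xR, (chevRel certE6 K).xe_zero]
      obtain ⟨h, hh, hhσ, T, h1, h3, e⟩ := ih (m + 1) L y (by omega) (by omega) hLp hLr hy' hyσ (e0 ▸ h2)
      exact ⟨h, hh, hhσ, T, fun p hp => ⟨⟨(h1 p hp).1.1, by have := (h1 p hp).1.2.1; omega, (h1 p hp).1.2.2⟩,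
        (h1 p hp).2⟩, h3, e0 ▸ e⟩
    have kills : ∀ i : ℕ, ∃ g ∈ UR K (oset L 1), σE6 hq hK g = g ∧
        ∃ v ∈ UR K (aset L r (m + 1 + i)), σE6 hq hK v = v ∧ g * a * g⁻¹ = orbEl q r c * v := by
      intro i
      induction i with
      | zero =>
        refine ⟨1, one_mem _, map_one _, y, ?_, hyσ, by rw [ea]; group⟩
        exact (chevRel certE6 K).US_mono (T := aset L r (m + 1 + (0 : ℕ))) (fun s hs => ⟨⟨hs.1, by
          have := hs.2.1; omega, hs.2.2⟩, Or.inr (by have := hs.2.1; omega)⟩) hy'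
      | succ i ihi =>
        obtain ⟨g, hg, hgσ, v, hv, hvσ, e⟩ := ihi
        have hv2 : orbEl q r c * v * (orbEl q r c * v) = 1 := by
          rw [← e, show g * a * g⁻¹ * (g * a * g⁻¹) = g * (a * a) * g⁻¹ by group, h2]; group
        obtain ⟨g', hg', hgσ', v', hv', hvσ', e'⟩ :=
          kill_level hq hK hLp hLr hr (by omega) hc hcf hv hvσ hv2
        refine ⟨g' * g, mul_mem hg' hg, by rw [map_mul, hgσ', hgσ], v', ?_, hvσ', ?_⟩
        · rwa [show m + 1 + ((i + 1 : ℕ) : ℤ) = m + 1 + (i : ℤ) + 1 by push_cast; ring]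
        · rw [← e', ← e]; group
    obtain ⟨g, hg, hgσ, v, hv, hvσ, e⟩ := kills 35
    obtain ⟨L', hL'⟩ : ∃ L', L' = r :: rho r :: L := ⟨_, rfl⟩
    have hvL : v ∈ UR K (oset L' (m + 1)) := (chevRel certE6 K).US_mono (S := aset L r (m + 1 + (35 : ℕ))) (T := oset L' (m + 1)) (fun s hs => ⟨hs.1.1, by
      have := hs.1.2.1; omega, fun l hl => by
        have hz : Zr r s := hs.2.resolve_right (by have := (lev_bound hs.1.1).2; omega)
        rw [hL'] at hl
        rcases List.mem_cons.1 hl with rfl | hl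
        · exact hz.1
        rcases List.mem_cons.1 hl with rfl | hl
        · exact hz.2
        · exact hs.1.2.2 l hl⟩) hv
    have hcom : ∀ {m' : ℤ} {z : ↥(chevE6.group K)}, z ∈ UR K (oset L' m') → Commute z (orbEl q r c) := by
      intro m' z hz
      refine closure_induction_symm (chevRel certE6 K).gens_symm ?_ ?_ hz
      · exact Commute.one_left _
      · rintro x ⟨s, hs, t, rfl⟩ w hw
        refine Commute.mul_left ?_ hw
        have hz' : ∀ p, p = r ∨ p = rho r → ∀ a : K, Commute (xR s t) (xR p a) := fun p hp a =>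
          ((chevRel certE6 K).commute_of_orth slE6 p.2 s.2 (hs.2.2 p (by rcases hp with rfl | rfl <;> simp [hL'])) a t).symm
        unfold orbEl
        split_ifs
        · exact hz' r (Or.inl rfl) c
        · exact (hz' r (Or.inl rfl) c).mul_right (hz' _ (Or.inr rfl) _)
    have hv2 : v * v = 1 := by
      have h' : orbEl q r c * v * (orbEl q r c * v) = 1 := by
        rw [← e, show g * a * g⁻¹ * (g * a * g⁻¹) = g * (a * a) * g⁻¹ by group, h2]; group
      rw [show orbEl q r c * v * (orbEl q r c * v) = orbEl q r c * (v * orbEl q r c) * v by group,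
        (hcom hvL).eq, ← mul_assoc, orbEl_self hr.1, one_mul] at h'
      exact h'
    obtain ⟨h, hh, hhσ, T, h1, h3, eT⟩ := ih (m + 1) L' v (by omega) (by omega)
      (fun l hl => by
        rw [hL'] at hl
        rcases List.mem_cons.1 hl with rfl | hl
        · exact hr.1
        rcases List.mem_cons.1 hl with rfl | hl
        · exact rho_pos.2 hr.1
        · exact hLp l hl)
      (fun l hl => by
        rw [hL'] at hl ⊢
        rcases List.mem_cons.1 hl with rfl | hl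
        · simp
        rcases List.mem_cons.1 hl with rfl | hl
        · simp [rho_rho]
        · simp [hLr l hl]) hvL hvσ hv2
    refine ⟨h * g, mul_mem ((chevRel certE6 K).US_mono (S := oset L' 1) (T := oset L 1) (fun s hs => ⟨hs.1, hs.2.1, fun l hl =>
      hs.2.2 l (by simp [hL', hl])⟩) hh) hg, by rw [map_mul, hhσ, hgσ], (r, c) :: T, ?_, ?_, ?_⟩
    · intro p hp
      rcases List.mem_cons.1 hp with rfl | hp
      · exact ⟨hrm, hc, hcf⟩
      · exact ⟨⟨(h1 p hp).1.1, by have := (h1 p hp).1.2.1; omega,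
          fun l hl => (h1 p hp).1.2.2 l (by simp [hL', hl])⟩, (h1 p hp).2⟩
    · exact List.pairwise_cons.2 ⟨fun p hp => ⟨(h1 p hp).1.2.2 r (by simp [hL']),
        (h1 p hp).1.2.2 (rho r) (by simp [hL'])⟩, h3⟩
    · rw [List.map_cons, List.prod_cons, ← eT]
      calc h * g * a * (h * g)⁻¹ = h * (g * a * g⁻¹) * h⁻¹ := by group
        _ = (h * orbEl q r c) * v * h⁻¹ := by rw [e]; group
        _ = _ := by rw [(hcom hh).eq]; group

end CfsgLib.Lie.Chev.TwGroups.E6Inv
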