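/-
The three classes of involutions of `²E₆(q)`, `q` even.
-/
import Cfsg.Agent.Lib.Lie.Twisted.E6Inv.Reduce
import Cfsg.Agent.Lib.Lie.Twisted.E6Inv.Norm
import Cfsg.Agent.Lib.Lie.CharTwoInv.RankE6

set_option autoImplicit false
set_option maxRecDepth 100000

namespace CfsgLib.Lie.Chev.TwGroups.E6Inv

open Cfsg.Lie
open CfsgLib.Lie.Chev.Inv2
open scoped Pointwise

theorem fuse_data : (66 < chevE6.nroots ∧ 68 < chevE6.nroots ∧ 50 < chevE6.nroots ∧ 71 < chevE6.nroots) ∧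
    (half chevE6 ≤ 48 ∧ half chevE6 ≤ 50 ∧ rhoN 50 = 48 ∧ 48 < chevE6.nroots) ∧
    (inn chevE6 auxE6 66 50 = -1 ∧ inn chevE6 auxE6 68 48 = -1 ∧ inn chevE6 auxE6 66 48 ≠ -1 ∧
      inn chevE6 auxE6 68 50 ≠ -1 ∧ inn chevE6 auxE6 71 50 ≠ -1 ∧ inn chevE6 auxE6 71 68 ≠ -1) ∧
    (sumR 66 50 = 71 ∧ sumR 68 48 = 71) := by decide +kernel

variable {K : Type*} [Field K] [CharP K 2] [Fintype K] {q : ℕ} (hq : IsPrimePow q) (hK : Fintype.card K = q ^ 2)

include hq hK in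
theorem fusion : Cj (twE6 hq hK).P1 (pOne (K := K) [66, 68]) (pOne [66, 68, 71]) := by
  obtain ⟨⟨l66, l68, l50, l71⟩, ⟨p48, p50, hρ, l48⟩, ⟨i1, i2, i3, i4, i5, i6⟩, s1, s2⟩ := fuse_data
  obtain ⟨a, ha⟩ : ∃ a : Root, a = ⟨66, l66⟩ := ⟨_, rfl⟩
  obtain ⟨b, hb⟩ : ∃ a : Root, a = ⟨68, l68⟩ := ⟨_, rfl⟩
  obtain ⟨d, hd⟩ : ∃ a : Root, a = ⟨50, l50⟩ := ⟨_, rfl⟩
  obtain ⟨d', hd'⟩ : ∃ a : Root, a = ⟨48, l48⟩ := ⟨_, rfl⟩
  obtain ⟨f, hf⟩ : ∃ a : Root, a = ⟨71, l71⟩ := ⟨_, rfl⟩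
  have va : (a : ℕ) = 66 := by rw [ha]
  have vb : (b : ℕ) = 68 := by rw [hb]
  have vd : (d : ℕ) = 50 := by rw [hd]
  have vd' : (d' : ℕ) = 48 := by rw [hd']
  have vf : (f : ℕ) = 71 := by rw [hf]
  have hdd : rho d = d' := Fin.ext (by show rhoN (d : ℕ) = (d' : ℕ); rw [vd, hρ, vd'])
  have hne : rho d ≠ d := fun e => by rw [hdd] at e; have := congrArg Fin.val e; omega
  have hpd : half chevE6 ≤ (d : ℕ) := by omega
  have hpd' : half chevE6 ≤ (d' : ℕ) := by omega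
  have hpa : half chevE6 ≤ (a : ℕ) := by omega
  have hpb : half chevE6 ≤ (b : ℕ) := by omega
  have hpf : half chevE6 ≤ (f : ℕ) := by omega
  obtain ⟨u, hu⟩ := exists_trace_one hq hK
  have com : ∀ {x y : Root}, half chevE6 ≤ (x : ℕ) → half chevE6 ≤ (y : ℕ) → inn chevE6 auxE6 x y ≠ -1 →
      ∀ t v : K, xR y v * xR x t * (xR y v)⁻¹ = xR x t := fun hx hy h t v => by
    rw [← ((chevRel certE6 K).commute_of_pos slE6 hx hy h t v).eq, mul_inv_cancel_right]
  have add : ∀ {x y : Root}, half chevE6 ≤ (x : ℕ) → half chevE6 ≤ (y : ℕ) → inn chevE6 auxE6 x y = -1 →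
      sumR x y = f → ∀ t v : K, xR y v * xR x t * (xR y v)⁻¹ = xR x t * xR f (t * v) := fun hx hy h hs t v => by
    obtain ⟨w, -, e, -, -, C, hC, he⟩ := exists_sum hx hy h
    rw [show f = w from Fin.ext (hs.symm.trans e)]
    exact (chevRel certE6 K).conj_of_term slE6 (Fin.is_lt _) (Fin.is_lt _) hC he h t v
  refine ⟨orbEl q d u, orbEl_P1 hq hK hpd (fun e => absurd e hne), ?_⟩
  have eA : orbEl q d u * xR a 1 * (orbEl q d u)⁻¹ = xR a (1 : K) * xR f u := by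
    rw [orbEl_pair hne, hdd, show ∀ g h x : ↥(chevE6.group K), g * h * x * (g * h)⁻¹ = g * (h * x * h⁻¹) * g⁻¹ from
      fun g h x => by group, com hpa hpd' (by rw [va, vd']; exact i3),
      add hpa hpd (by rw [va, vd]; exact i1) (by rw [va, vd, vf]; exact s1), one_mul]
  have eB : orbEl q d u * xR b 1 * (orbEl q d u)⁻¹ = xR b (1 : K) * xR f (u ^ q) := by
    rw [orbEl_pair hne, hdd, show ∀ g h x : ↥(chevE6.group K), g * h * x * (g * h)⁻¹ = g * (h * x * h⁻¹) * g⁻¹ from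
      fun g h x => by group, add hpb hpd' (by rw [vb, vd']; exact i2) (by rw [vb, vd', vf]; exact s2), one_mul,
      show ∀ g x y : ↥(chevE6.group K), g * (x * y) * g⁻¹ = (g * x * g⁻¹) * (g * y * g⁻¹) from fun g x y => by group,
      com hpb hpd (by rw [vb, vd]; exact i4), com hpf hpd (by rw [vf, vd]; exact i5)]
  have hcm : xR f u * xR b (1 : K) = xR b 1 * xR f u :=
    ((chevRel certE6 K).commute_of_pos slE6 hpf hpb (by rw [vf, vb]; exact i6) u 1).eq
  simp only [pOne, Rel.prodOnes, List.map_cons, List.map_nil, List.prod_cons, List.prod_nil, mul_one]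
  rw [show (chevRel certE6 K).xe 66 1 = xR a (1 : K) by rw [xR, va],
    show (chevRel certE6 K).xe 68 1 = xR b (1 : K) by rw [xR, vb],
    show (chevRel certE6 K).xe 71 1 = xR f (1 : K) by rw [xR, vf]]
  calc orbEl q d u * (xR a 1 * xR b 1) * (orbEl q d u)⁻¹
      = (orbEl q d u * xR a 1 * (orbEl q d u)⁻¹) * (orbEl q d u * xR b 1 * (orbEl q d u)⁻¹) := by group
    _ = xR a 1 * (xR f u * xR b 1) * xR f (u ^ q) := by rw [eA, eB]; group
    _ = xR a 1 * xR b 1 * (xR f u * xR f (u ^ q)) := by rw [hcm]; group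
    _ = _ := by rw [xR_add, hu, mul_assoc]

/-- the three representatives -/
def reps3 : List (List ℕ × ℕ) := [([71], 22), ([66, 68], 32), ([55, 65, 67], 38)]

include hq hK in
theorem rep_fixed : ∀ p ∈ reps3, pOne (K := K) p.1 ∈ (twE6 hq hK).P1 ∧ pOne (K := K) p.1 * pOne p.1 = 1 := by
  have hlt : ∀ x ∈ [71, 66, 55, 65], x < chevE6.nroots ∧ half chevE6 ≤ x := by decide +kernel
  have hl : orbList 71 = [71] ∧ orbList 66 = [66, 68] ∧ orbList 55 = [55, 67] ∧ orbList 65 = [65] := by decide +kernel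
  have ho : OrthL chevE6 auxE6 [55, 65, 67] := ⟨by decide +kernel, by unfold Inv2.Orth; decide +kernel⟩
  have orb : ∀ x, x ∈ [71, 66, 55, 65] → pOne (K := K) (orbList x) ∈ (twE6 hq hK).P1 ∧
      pOne (K := K) (orbList x) * pOne (orbList x) = 1 := by
    intro x hx
    obtain ⟨h1, h2⟩ := hlt x hx
    have e : orbEl q (⟨x, h1⟩ : Root) (1 : K) = pOne (orbList x) := orbEl_one _
    exact ⟨e ▸ orbEl_P1 hq hK h2 (fun _ => one_pow q), e ▸ orbEl_self h2 1⟩
  intro p hp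
  simp only [reps3, List.mem_cons, List.not_mem_nil, or_false] at hp
  rcases hp with rfl | rfl | rfl
  · simpa only [hl.1] using orb 71 (by simp)
  · simpa only [hl.2.1] using orb 66 (by simp)
  · have e : pOne (K := K) [55, 65, 67] = pOne [55, 67] * pOne [65] := by
      rw [show pOne (K := K) [55, 65, 67] = pOne [55, 67, 65] from
        (chevRel certE6 K).prodOne_perm slE6 ho (List.Perm.cons _ (List.Perm.swap 67 65 []))]
      simp [pOne, Rel.prodOnes, mul_assoc]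
    refine ⟨?_, (chevRel certE6 K).prodOne_sq slE6 ho⟩
    show pOne [55, 65, 67] ∈ _
    rw [e]
    exact mul_mem (hl.2.2.1 ▸ (orb 55 (by simp)).1) (hl.2.2.2 ▸ (orb 65 (by simp)).1)

omit [Fintype K] in
theorem rep_rank : ∀ p ∈ reps3, (chevRel certE6 K).rkSub (pOne p.1) = p.2 := by
  have ho : OrthL chevE6 auxE6 [66, 68] := ⟨by decide +kernel, by unfold Inv2.Orth; decide +kernel⟩
  intro p hp
  simp only [reps3, List.mem_cons, List.not_mem_nil, or_false] at hp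
  rcases hp with rfl | rfl | rfl
  · exact (chevRel certE6 K).rkSub_prodOne rankE6_1
  · show (chevRel certE6 K).rkSub (pOne [66, 68]) = 32
    rw [show pOne (K := K) [66, 68] = (chevRel certE6 K).prodOne [68, 66] from
      (chevRel certE6 K).prodOne_perm slE6 ho (List.Perm.swap 68 66 [])]
    exact (chevRel certE6 K).rkSub_prodOne rankE6_2
  · exact (chevRel certE6 K).rkSub_prodOne rankE6_3

include hq hK in
theorem card_UP1 : Nat.card ↥((twE6 hq hK).P1 ⊓ (chevRel certE6 K).UP) = q ^ 36 := by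
  obtain ⟨e, he, hU⟩ := (twE6 hq hK).card_U1 one_pos (classCardE6 hq hK)
  have h36 : half chevE6 = 36 := by decide +kernel
  rw [h36, one_mul] at he
  rw [hU, ← he]

include hq hK in
/-- every involution of the fixed group is conjugate to one of the representatives -/
theorem exists_rep {x : ↥(chevE6.group K)} (hx : x ∈ (twE6 hq hK).P1) (h2 : x * x = 1) (h1 : x ≠ 1) :
    ∃ p ∈ reps3, Cj (twE6 hq hK).P1 x (pOne p.1) := by
  haveI := (chevRel certE6 K).Finite_of_field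
  haveI : Fact (Nat.Prime 2) := ⟨Nat.prime_two⟩
  obtain ⟨n, -, hn⟩ := FiniteField.card K 2
  obtain ⟨m, -, hm'⟩ := (Nat.dvd_prime_pow Nat.prime_two).1
    (show q ∣ 2 ^ (n : ℕ) by rw [← hn, hK]; exact dvd_pow_self q two_ne_zero)
  obtain ⟨U, hU⟩ : ∃ U : Subgroup ↥((twE6 hq hK).P1),
      U = ((twE6 hq hK).P1 ⊓ (chevRel certE6 K).UP).subgroupOf (twE6 hq hK).P1 := ⟨_, rfl⟩
  have hUc : Nat.card ↥U = q ^ 36 := by
    rw [hU, Nat.card_congr (Subgroup.subgroupOfEquivOfLe inf_le_left).toEquiv, card_UP1]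
  have hidx : ¬ 2 ∣ U.index := by
    have e1 : Nat.card ↥U * U.index = Nat.card ↥(twistedE6 K q) := by
      rw [U.card_mul_index]
      exact (card_twisted certE6 twE6_le (twE6 hq hK) (twE6_P1 hq hK)).symm
    have e2 := card_twE6 hq hK
    rw [← e1, hUc, ← mul_assoc, mul_comm (Nat.gcd 3 (q + 1)), mul_assoc] at e2
    simp only [mul_assoc] at e2
    have e3 := Nat.eq_of_mul_eq_mul_left (pow_pos hq.pos 36) e2
    have h2q : ∀ k, k ≠ 0 → 2 ∣ q ^ k := fun k hk => by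
      rw [hm']
      have hm0 : m ≠ 0 := by
        rintro rfl
        rw [pow_zero] at hm'
        exact absurd hq.one_lt (by omega)
      exact dvd_pow (dvd_pow_self 2 hm0) hk
    intro hd
    have hd' : 2 ∣ Nat.gcd 3 (q + 1) * U.index := dvd_mul_of_dvd_right hd _
    rw [e3] at hd'
    have sub : ∀ k, k ≠ 0 → ¬ 2 ∣ q ^ k - 1 := fun k hk h => by
      have h' := Nat.dvd_sub (h2q k hk) h
      rw [Nat.sub_sub_self (Nat.one_le_pow _ _ hq.pos)] at h'
      exact absurd h' (by decide)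
    have add : ∀ k, k ≠ 0 → ¬ 2 ∣ q ^ k + 1 := fun k hk h => by
      rw [Nat.dvd_add_right (h2q k hk)] at h
      exact absurd h (by decide)
    simp only [Nat.prime_two.dvd_mul] at hd'
    rcases hd' with h | h | h | h | h | h
    exacts [sub 2 (by omega) h, add 5 (by omega) h, sub 6 (by omega) h, sub 8 (by omega) h, add 9 (by omega) h,
      sub 12 (by omega) h]
  obtain ⟨P, hP⟩ : ∃ P : Sylow 2 ↥((twE6 hq hK).P1), (P : Subgroup ↥((twE6 hq hK).P1)) = U :=
    ⟨(IsPGroup.of_card (hUc.trans (by rw [hm', ← pow_mul]))).toSylow hidx, IsPGroup.toSylow_coe _ _⟩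
  obtain ⟨x', hx'⟩ : ∃ x' : ↥((twE6 hq hK).P1), (x' : ↥(chevE6.group K)) = x := ⟨⟨x, hx⟩, rfl⟩
  have hxo : orderOf x' = 2 := orderOf_eq_prime (Subtype.ext (by
    rw [sq, Subgroup.coe_mul, hx']; exact h2)) fun e => h1 (by rw [← hx', e]; rfl)
  have hpg : IsPGroup 2 ↥(Subgroup.zpowers x') := IsPGroup.of_card (n := 1) (by rw [Nat.card_zpowers, hxo, pow_one])
  obtain ⟨g, hg⟩ := CfsgLib.Techniques.exists_conj_mem_sylow P hpg
  have hgU := hg x' (Subgroup.mem_zpowers x')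
  rw [hP, hU, Subgroup.mem_subgroupOf] at hgU
  simp only [Subgroup.coe_mul, Subgroup.coe_inv, hx'] at hgU
  obtain ⟨a, ha⟩ : ∃ a, a = (g : ↥(chevE6.group K)) * x * (g : ↥(chevE6.group K))⁻¹ := ⟨_, rfl⟩
  rw [← ha] at hgU
  have hca : Cj (twE6 hq hK).P1 x a := ⟨g, g.2, ha.symm⟩
  have ha2 : a * a = 1 := by
    rw [ha, show ∀ g y : ↥(chevE6.group K), g * y * g⁻¹ * (g * y * g⁻¹) = g * (y * y) * g⁻¹ from
      fun g y => by group, h2]
    group
  have haU : a ∈ UR K (oset [] 1) := (chevRel certE6 K).US_mono (S := posSet chevE6) (T := oset [] 1)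
    (fun s hs => ⟨hs, (lev_bound hs).1, by simp⟩) hgU.2
  obtain ⟨h, hh, hhσ, T, hT1, hT2, e⟩ := exists_orbit_form hq hK 36 1 [] a (by norm_num) le_rfl (by simp)
    (by simp) haU ((twE6 hq hK).hfix a hgU.1) ha2
  have hhP : h ∈ (twE6 hq hK).P1 := fixed_mem hq hK (fun r hr => hr.1) hh hhσ
  obtain ⟨S, hS, hc⟩ := orbit_form_conj hq hK T (fun p hp => ⟨(hT1 p hp).1.1, (hT1 p hp).2⟩) hT2
  have hxS : Cj (twE6 hq hK).P1 x (pOne S) := hca.trans (Cj.trans ⟨h, hhP, e⟩ hc)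
  rcases listed hq hK hS with h0 | ⟨Q, hQ, hc'⟩
  · obtain ⟨w, -, hw⟩ := hxS
    rw [h0] at hw
    exact absurd (conj_eq_one_iff.1 hw) h1
  have hxQ := hxS.trans hc'
  simp only [reps4, List.mem_cons, List.not_mem_nil, or_false] at hQ
  rcases hQ with rfl | rfl | rfl | rfl
  · exact ⟨([71], 22), by simp [reps3], hxQ⟩
  · exact ⟨([66, 68], 32), by simp [reps3], hxQ⟩
  · exact ⟨([55, 65, 67], 38), by simp [reps3], hxQ⟩
  · refine ⟨([66, 68], 32), by simp [reps3], hxQ.trans ?_⟩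
    obtain ⟨w, hw, e⟩ := fusion hq hK
    exact ⟨w⁻¹, inv_mem hw, by rw [← e]; group⟩

include hq hK in
/-- `²E₆(q)`, `q` even, has three classes of involutions -/
theorem class_count :
    (ConjClasses.mk '' {g : ↥(twistedE6 K q) | orderOf g = 2}).ncard = 3 := by
  classical
  obtain ⟨Θ, hΘ⟩ : ∃ Θ : ↥((twE6 hq hK).P1) ≃* ↥(twistedE6 K q), ∀ g, ((Θ g : ↥(twistedE6 K q)) : GL chevE6.Idx K) =
      ((g : ↥(chevE6.group K)) : GL chevE6.Idx K) :=
    ⟨Subgroup.subgroupOfEquivOfLe twE6_le, fun _ => rfl⟩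
  obtain ⟨cls, hcls⟩ : ∃ cls : List ℕ × ℕ → ConjClasses ↥(twistedE6 K q), ∀ p, ∀ h : pOne p.1 ∈ (twE6 hq hK).P1,
      cls p = ConjClasses.mk (Θ ⟨pOne p.1, h⟩) :=
    ⟨fun p => if h : pOne p.1 ∈ (twE6 hq hK).P1 then ConjClasses.mk (Θ ⟨pOne p.1, h⟩) else ConjClasses.mk 1,
      fun p h => dif_pos h⟩
  have key : ConjClasses.mk '' {g : ↥(twistedE6 K q) | orderOf g = 2} = ↑(reps3.toFinset.image cls) := by
    ext C
    simp only [Finset.coe_image, List.coe_toFinset, Set.mem_image]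
    constructor
    · rintro ⟨g, hg, rfl⟩
      obtain ⟨x, rfl⟩ := Θ.surjective g
      have hg' : orderOf x = 2 := by rw [← MulEquiv.orderOf_eq Θ x]; exact hg
      obtain ⟨hpow, hne1⟩ := orderOf_eq_prime_iff.1 hg'
      obtain ⟨p, hp, c, hc, e⟩ := exists_rep hq hK x.2 (by rw [← Subgroup.coe_mul, ← sq, hpow]; rfl)
        (fun e => hne1 (Subtype.ext e))
      refine ⟨p, hp, ?_⟩
      rw [hcls p (rep_fixed hq hK p hp).1]
      refine (ConjClasses.mk_eq_mk_iff_isConj.2 (isConj_iff.2 ⟨Θ ⟨c, hc⟩, ?_⟩)).symm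
      rw [← map_inv, ← map_mul, ← map_mul]
      exact congrArg Θ (Subtype.ext e)
    · rintro ⟨p, hp, rfl⟩
      obtain ⟨h1, h2⟩ := rep_fixed hq hK p hp
      refine ⟨Θ ⟨pOne p.1, h1⟩, orderOf_eq_prime_iff.2 ⟨?_, fun h => ?_⟩, (hcls p h1).symm⟩
      · rw [sq, ← map_mul, show (⟨pOne p.1, h1⟩ : ↥((twE6 hq hK).P1)) * ⟨pOne p.1, h1⟩ = 1 from Subtype.ext h2,
          map_one]
      · rw [EmbeddingLike.map_eq_one_iff] at h
        have hr := rep_rank (K := K) p hp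
        rw [show pOne (K := K) p.1 = 1 from congrArg Subtype.val h, (chevRel certE6 K).rkSub_one] at hr
        simp only [reps3, List.mem_cons, List.not_mem_nil, or_false] at hp
        rcases hp with rfl | rfl | rfl <;> norm_num at hr
  rw [key, Set.ncard_coe_finset, Finset.card_image_of_injOn]
  · decide
  · intro p hp p' hp' e
    simp only [List.coe_toFinset, Set.mem_setOf_eq] at hp hp'
    rw [hcls p (rep_fixed hq hK p hp).1, hcls p' (rep_fixed hq hK p' hp').1] at e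
    obtain ⟨c, hc⟩ := isConj_iff.1 (ConjClasses.mk_eq_mk_iff_isConj.1 e)
    obtain ⟨d, rfl⟩ := Θ.surjective c
    rw [← map_inv, ← map_mul, ← map_mul] at hc
    have h' : IsConj (pOne (K := K) p.1) (pOne p'.1) :=
      isConj_iff.2 ⟨d, congrArg Subtype.val (Θ.injective hc)⟩
    have h'' := (chevRel certE6 K).rkSub_conj h'
    rw [rep_rank p hp, rep_rank p' hp'] at h''
    simp only [reps3, List.mem_cons, List.not_mem_nil, or_false] at hp hp'
    rcases hp with rfl | rfl | rfl <;> rcases hp' with rfl | rfl | rfl <;> first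
      | rfl
      | exact absurd h'' (by norm_num)

end CfsgLib.Lie.Chev.TwGroups.E6Inv
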